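import Cfsg.Agent.Lib.FreeInertia.Ref
import Cfsg.Agent.Lib.Watanabe.StarSum
import Cfsg.Agent.Lib.BrauerPairs.InducedIn
import Cfsg.Agent.Lib.BrauerPairs.NilpotentBlock

/-!
# Freely acting inertial quotient: the local blocks

For a maximal pair `(P, e)` with `P` abelian whose stabiliser acts freely on the nontrivial elements
of `P`, the block of `C(R)` below the pair is nilpotent for every `1 ≠ R ≤ P`.
-/

set_option autoImplicit false
set_option linter.unusedSectionVars false
set_option linter.style.haveILetI false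

namespace Cfsg.Agent.FreeInertia

open Cfsg Blocks MonoidAlgebra
open Cfsg.Agent.BrauerPairs (blk blkG IsBlockIdem br conjEl conjPair inclPair IsPair IsMax PLE Step
  stabOf hasBlocks isBlockIdem_blkG incl mapBlock DefectIn IsNilpotentPairs)
open Cfsg.Agent.Blocks.NilRank (eU eU_spec eU_eq blkSet blkSet_spec)
open scoped Classical

universe u

variable {G : Type u} [Group G] [Fintype G] {M : Ideal AlgInt} [M.IsMaximal] {p : ℕ}
  [hp : Fact p.Prime] [CharP (AlgInt ⧸ M) p] {B : Set (IrrCharacter G)} {P : Subgroup G}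
  {e : MonoidAlgebra (AlgInt ⧸ M) G}

variable (p) in
/-- An abelian defect group with freely acting inertial quotient. -/
structure Setup (B : Set (IrrCharacter G)) (P : Subgroup G) (e : MonoidAlgebra (AlgInt ⧸ M) G) :
    Prop where
  modular : IsPModular p M
  block : IsPBlock M B
  isMax : IsMax p (blkG M B) (P, e)
  comm : P ≤ Subgroup.centralizer (P : Set G)
  free : ∀ g ∈ stabOf P e, ∀ x ∈ P, x ≠ 1 → g * x * g⁻¹ = x → g ∈ Subgroup.centralizer (P : Set G)

variable (p) in
/-- The block idempotent of `C(R)` below `(P, e)`. -/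
noncomputable def fR (P : Subgroup G) (e : MonoidAlgebra (AlgInt ⧸ M) G) (R : Subgroup G) :
    MonoidAlgebra (AlgInt ⧸ M) G :=
  if h : ∃ f, PLE p (R, f) (P, e) then h.choose else 0

theorem fR_spec (ha : IsPair p (P, e)) {R : Subgroup G} (hR : R ≤ P) :
    PLE p (R, fR p P e R) (P, e) := by
  have h : ∃ f, PLE p (R, f) (P, e) := BrauerPairs.exists_ple (fun H => hasBlocks M H) ha R hR
  rw [fR, dif_pos h]
  exact h.choose_spec

theorem fR_eq (ha : IsPair p (P, e)) {R : Subgroup G} {f : MonoidAlgebra (AlgInt ⧸ M) G}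
    (h : PLE p (R, f) (P, e)) : fR p P e R = f :=
  BrauerPairs.ple_unique (fun H => hasBlocks M H) ha R _ _ (fR_spec ha h.le) h

theorem fR_zpowers (ha : IsPair p (P, e)) {v : G} (hv : v ∈ P) :
    fR p P e (Subgroup.zpowers v) = eU p P e v :=
  fR_eq ha (eU_spec ha hv)

theorem fR_self (ha : IsPair p (P, e)) : fR p P e P = e := fR_eq ha Relation.ReflTransGen.refl

theorem isBlockIdem_fR (ha : IsPair p (P, e)) {R : Subgroup G} (hR : R ≤ P) :
    IsBlockIdem (Subgroup.centralizer (R : Set G)) (fR p P e R) :=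
  ((fR_spec ha hR).isPair_left ha).2

variable (M p) in
/-- Reference data of the block `f` of `H`. -/
noncomputable def refData (H : Subgroup G) (f : MonoidAlgebra (AlgInt ⧸ M) G) :
    (H → ℂ) × (IrrCharacter H → ℕ) :=
  if h : ∃ x : (H → ℂ) × (IrrCharacter H → ℕ), IsRef p (blkSet M H f) x.1 x.2
      (p ^ blockDefect p (blkSet M H f)) then h.choose else (0, 0)

variable (M p) in
/-- The decomposition number of `θ` at `(x, f)` in `H`. -/
noncomputable def LH (H : Subgroup G) (f : MonoidAlgebra (AlgInt ⧸ M) G) (θ : G → ℂ) (x : G) : ℂ :=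
  if hx : x ∈ H then Lc (blkSet M H f) (refData M p H f).2 (fun s : H => θ s) ⟨x, hx⟩ else 0

variable (M p) in
/-- The trace of `a ^ (p ^ n)` at the block `f` of `H`. -/
noncomputable def muH (H : Subgroup G) (f : MonoidAlgebra (AlgInt ⧸ M) G) (a : MonoidAlgebra ℂ G)
    (n : ℕ) : ℂ :=
  chiL (refData M p H f).1 (resH H a ^ p ^ n)

namespace Setup

variable (s : Setup p B P e)
include s

theorem hpM : (p : AlgInt) ∈ M := s.modular.2.2

theorem pair : IsPair p (P, e) := s.isMax.1.1

theorem isPGroup : IsPGroup p P := s.isMax.1.1.1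

theorem le_centralizer {R : Subgroup G} (hR : R ≤ P) : P ≤ Subgroup.centralizer (R : Set G) :=
  BrauerPairs.le_centralizer_of_le_comm s.comm hR

theorem centralizer_le_stab : Subgroup.centralizer (P : Set G) ≤ stabOf P e :=
  BrauerPairs.centralizer_le_stabOf s.pair.2

theorem inf_stab {R : Subgroup G} (hR : R ≤ P) (hR1 : R ≠ ⊥) :
    Subgroup.centralizer (R : Set G) ⊓ stabOf P e = Subgroup.centralizer (P : Set G) := by
  obtain ⟨⟨q, hq⟩, hq1⟩ := (Subgroup.ne_bot_iff_exists_ne_one (H := R)).1 hR1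
  refine le_antisymm (fun g hg => s.free g hg.2 q (hR hq) (fun h => hq1 (Subtype.ext h)) ?_)
    (le_inf (Subgroup.centralizer_le hR) s.centralizer_le_stab)
  rw [← Subgroup.mem_centralizer_iff.1 hg.1 q hq, mul_inv_cancel_right]

theorem block_spec {R : Subgroup G} (hR : R ≤ P) :
    IsPBlock M (blkSet M (Subgroup.centralizer (R : Set G)) (fR p P e R)) ∧
      blk M _ (blkSet M (Subgroup.centralizer (R : Set G)) (fR p P e R)) = fR p P e R :=
  blkSet_spec (isBlockIdem_fR s.pair hR)

theorem exists_max_local {R : Subgroup G} (hR : R ≤ P) :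
    ∃ E : MonoidAlgebra (AlgInt ⧸ M) (Subgroup.centralizer (R : Set G)),
      IsMax p (blkG M (blkSet M (Subgroup.centralizer (R : Set G)) (fR p P e R)))
        (P.subgroupOf (Subgroup.centralizer (R : Set G)), E) ∧
      incl (Subgroup.centralizer (R : Set G)) (AlgInt ⧸ M) E = e := by
  have hblk : ∀ H : Subgroup G, BrauerPairs.HasBlocks (AlgInt ⧸ M) H := fun H => hasBlocks M H
  obtain ⟨hb, hbe⟩ := s.block_spec hR
  have hle := fR_spec s.pair hR
  have hst := BrauerPairs.step_of_ple_comm hblk s.pair s.comm hle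
  obtain ⟨c, hc, hce⟩ :=
    BrauerPairs.exists_eq_blk (Subgroup.centralizer (P : Set G)) s.pair.2
  have hD := BrauerPairs.defectIn_centralizer_of_comm hblk (isBlockIdem_blkG s.block) s.isMax
    s.comm hle
  obtain ⟨e', he', hinc⟩ := BrauerPairs.exists_maximalPair_sub hb (by rw [hbe]; exact hD)
    (Subgroup.centralizer_le hR) hc (by rw [hbe, hce]; exact hst.2.2.2.2.2)
  exact ⟨_, ((BrauerPairs.isMaximalBrauerPair_iff hb).1 he').2, hinc.trans hce⟩

theorem comm_subgroupOf (K : Subgroup G) : P.subgroupOf K ≤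
    Subgroup.centralizer ((P.subgroupOf K : Subgroup K) : Set K) := fun x hx =>
  Subgroup.mem_centralizer_iff.2 fun y hy =>
    Subtype.ext (Subgroup.mem_centralizer_iff.1 (s.comm hx) y hy)

theorem nilpotent_local {R : Subgroup G} (hR : R ≤ P) (hR1 : R ≠ ⊥) :
    IsNilpotentBlock p M (blkSet M (Subgroup.centralizer (R : Set G)) (fR p P e R)) := by
  have hblk : ∀ H : Subgroup G, BrauerPairs.HasBlocks (AlgInt ⧸ M) H := fun H => hasBlocks M H
  have hblkC : ∀ L : Subgroup (Subgroup.centralizer (R : Set G)),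
      BrauerPairs.HasBlocks (AlgInt ⧸ M) L := fun L => hasBlocks M L
  obtain ⟨hb, hbe⟩ := s.block_spec hR
  obtain ⟨E, hmax', hinc⟩ := s.exists_max_local hR
  have hP₁ := s.comm_subgroupOf (Subgroup.centralizer (R : Set G))
  have hPR := s.le_centralizer hR
  refine (BrauerPairs.isNilpotentBlock_iff hb).2 (BrauerPairs.isNilpotentPairs_of_inner hblkC
    (isBlockIdem_blkG hb) hmax' fun g A hg => ⟨1, one_mem _, fun r hr => ?_⟩)
  obtain ⟨hAP, f, hf, hgf⟩ := hg
  have hs1 := BrauerPairs.step_of_ple_comm hblkC hmax'.1.1 hP₁ hf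
  have hgs1 := BrauerPairs.step_of_ple_comm hblkC hmax'.1.1 hP₁ hgf
  set Q₁ : Subgroup (Subgroup.centralizer (R : Set G)) :=
    R.subgroupOf (Subgroup.centralizer (R : Set G))
  have hcent : ∀ (u : Q₁) (x : Subgroup.centralizer (R : Set G)),
      (u : Subgroup.centralizer (R : Set G)) * x = x * u := fun u x =>
    Subtype.ext (Subgroup.mem_centralizer_iff.1 x.2 _ u.2)
  have hgQ : Q₁.map (MulAut.conj g).toMonoidHom = Q₁ :=
    BrauerPairs.map_conj_eq_of_mem_normalizer (BrauerPairs.mem_normalizer_of_conj_le fun u hu => by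
      rwa [← hcent ⟨u, hu⟩ g, mul_inv_cancel_right])
  have hQ₁ : Q₁ ≤ P.subgroupOf (Subgroup.centralizer (R : Set G)) := fun u hu => hR hu
  have enlarge : ∀ (X : Subgroup (Subgroup.centralizer (R : Set G)))
      (x : MonoidAlgebra (AlgInt ⧸ M) (Subgroup.centralizer (R : Set G))),
      Step p (X, x) (P.subgroupOf (Subgroup.centralizer (R : Set G)), E) →
      Step p (X ⊔ Q₁, x) (P.subgroupOf (Subgroup.centralizer (R : Set G)), E) := by
    intro X x hX
    have hle : X ⊔ Q₁ ≤ P.subgroupOf (Subgroup.centralizer (R : Set G)) := sup_le hX.2.2.1 hQ₁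
    refine BrauerPairs.step_of_centralizer_eq hX hle
      ((BrauerPairs.le_centralizer_of_le_comm hP₁ hle).trans
        (Subgroup.centralizer_le_normalizer _)) ?_
    refine le_antisymm (Subgroup.centralizer_le (SetLike.coe_subset_coe.2 le_sup_left)) fun y hy => ?_
    have hsup : X ⊔ Q₁ ≤ Subgroup.centralizer ({y} : Set (Subgroup.centralizer (R : Set G))) := sup_le
      (fun u hu => Subgroup.mem_centralizer_singleton_iff.2 (Subgroup.mem_centralizer_iff.1 hy u hu))
      (fun u hu => Subgroup.mem_centralizer_singleton_iff.2 (hcent ⟨u, hu⟩ y))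
    exact Subgroup.mem_centralizer_iff.2 fun u hu =>
      Subgroup.mem_centralizer_singleton_iff.1 (hsup hu)
  have e1 : (A ⊔ Q₁).map (MulAut.conj g).toMonoidHom = A.map (MulAut.conj g).toMonoidHom ⊔ Q₁ := by
    rw [Subgroup.map_sup, hgQ]
  have hRS : ∀ X : Subgroup (Subgroup.centralizer (R : Set G)),
      R ≤ (X ⊔ Q₁).map (Subgroup.centralizer (R : Set G)).subtype := fun X x hx =>
    ⟨⟨x, hPR (hR hx)⟩, Subgroup.mem_sup_right hx, rfl⟩
  have hS' := PLE.of_incl (Relation.ReflTransGen.single (enlarge _ _ hs1))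
    (Subgroup.centralizer_le (hRS A) : Subgroup.centralizer _ ≤ (Subgroup.centralizer (R : Set G)))
  have hgS' := PLE.of_incl (Relation.ReflTransGen.single (enlarge _ _ hgs1))
    (Subgroup.centralizer_le (hRS _) : Subgroup.centralizer _ ≤ (Subgroup.centralizer (R : Set G)))
  have etop : inclPair (P.subgroupOf (Subgroup.centralizer (R : Set G)), E) = (P, e) :=
    Prod.ext (Subgroup.map_subgroupOf_eq_of_le hPR) hinc
  rw [etop] at hS' hgS'
  have hgS'' : PLE p (conjPair (g : G) (inclPair (A ⊔ Q₁, f))) (P, e) := by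
    rw [show conjPair (g : G) (inclPair (A ⊔ Q₁, f)) =
      inclPair (conjPair g (A ⊔ Q₁, f)) from
      (Prod.ext (BrauerPairs.map_map_conj_subtype g _) (BrauerPairs.conjEl_incl g f)).symm]
    rw [← e1] at hgS'
    exact hgS'
  obtain ⟨h, hh, hhg⟩ := BrauerPairs.exists_mul_mem_stabOf_of_comm hblk (isBlockIdem_blkG s.block)
    s.isMax s.comm hS' hgS''
  have hhC : h ∈ Subgroup.centralizer (R : Set G) := by
    rw [Subgroup.mem_centralizer_iff]
    intro x hx
    refine Subgroup.mem_centralizer_iff.1 hh x ⟨x, hRS A hx, ?_⟩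
    show (g : G) * x * (g : G)⁻¹ = x
    rw [← Subgroup.mem_centralizer_iff.1 g.2 x hx, mul_inv_cancel_right]
  have hmem : h * g ∈ Subgroup.centralizer (P : Set G) :=
    (s.inf_stab hR hR1).le ⟨mul_mem hhC g.2, hhg⟩
  have h1 : (g : G) * r * (g : G)⁻¹ * h = h * ((g : G) * r * (g : G)⁻¹) :=
    Subgroup.mem_centralizer_iff.1 hh _ ⟨r, ⟨r, Subgroup.mem_sup_left hr, rfl⟩, rfl⟩
  have h2 : (r : G) * (h * g) = h * g * r := Subgroup.mem_centralizer_iff.1 hmem _ (hAP hr)
  apply Subtype.ext
  simp only [Subgroup.coe_mul, Subgroup.coe_inv, one_mul, inv_one, mul_one]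
  calc (g : G) * r * (g : G)⁻¹ = (g : G) * r * (g : G)⁻¹ * h * h⁻¹ := by rw [mul_inv_cancel_right]
    _ = h * g * r * ((g : G)⁻¹ * h⁻¹) := by rw [h1]; group
    _ = r := by rw [← h2]; group

theorem pow_defect_local {R : Subgroup G} (hR : R ≤ P) :
    p ^ blockDefect p (blkSet M (Subgroup.centralizer (R : Set G)) (fR p P e R)) = Nat.card P := by
  obtain ⟨hb, hbe⟩ := s.block_spec hR
  have hPR := s.le_centralizer hR
  have hD := BrauerPairs.defectIn_centralizer_of_comm (fun H => hasBlocks M H)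
    (isBlockIdem_blkG s.block) s.isMax s.comm (fR_spec s.pair hR)
  rw [← card_defectGroup s.hpM hb ((BrauerPairs.isDefectGroup_subgroupOf_iff hb hPR).2
    (by rwa [hbe])), Nat.card_congr (Subgroup.subgroupOfEquivOfLe hPR).toEquiv]

theorem isRef {R : Subgroup G} (hR : R ≤ P) (hR1 : R ≠ ⊥) :
    IsRef p (blkSet M (Subgroup.centralizer (R : Set G)) (fR p P e R))
      (refData M p (Subgroup.centralizer (R : Set G)) (fR p P e R)).1
      (refData M p (Subgroup.centralizer (R : Set G)) (fR p P e R)).2 (Nat.card P) := by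
  obtain ⟨ν, d, h⟩ := exists_ref s.modular (s.nilpotent_local hR hR1)
  have hex : ∃ x : (Subgroup.centralizer (R : Set G) → ℂ) ×
      (IrrCharacter (Subgroup.centralizer (R : Set G)) → ℕ),
      IsRef p (blkSet M (Subgroup.centralizer (R : Set G)) (fR p P e R)) x.1 x.2
        (p ^ blockDefect p (blkSet M (Subgroup.centralizer (R : Set G)) (fR p P e R))) := ⟨(ν, d), h⟩
  have h2 := hex.choose_spec
  rw [refData, dif_pos hex]
  simpa only [s.pow_defect_local hR] using h2

theorem central_mem {R : Subgroup G} {x : G} (hx : x ∈ R) (hR : R ≤ P) :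
    ∃ hxC : x ∈ Subgroup.centralizer (R : Set G),
      ∀ y : Subgroup.centralizer (R : Set G), Commute ⟨x, hxC⟩ y :=
  ⟨(s.le_centralizer hR) (hR hx), fun y =>
    Subtype.ext (Subgroup.mem_centralizer_iff.1 y.2 x hx)⟩

theorem pow_card_p {x : G} (hx : x ∈ P) {D : ℕ} (hD : Nat.card P = p ^ D) : x ^ (p ^ D * p) = 1 := by
  rw [← hD]
  exact NilRank.pow_card_mul hx

end Setup

end Cfsg.Agent.FreeInertia
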