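import Cfsg.Agent.Lib.FreeInertia.Local
import Cfsg.Agent.Lib.Blocks.NilpotentRank.TraceElt

/-!
# An element localized at a given maximal pair

For a maximal pair `(P, e)` there is a `P`-fixed element of unit trace at a height zero character
whose Brauer image at every `R ≤ P` lies in the block below the pair.
-/

set_option autoImplicit false
set_option linter.unusedSectionVars false
set_option linter.style.haveILetI false

namespace Cfsg.Agent.FreeInertia

open Cfsg Blocks MonoidAlgebra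
open Cfsg.Agent.BrauerPairs (blk blkG IsBlockIdem br conjEl conjPair IsPair IsMax PLE fixedBy
  stabOf hasBlocks isBlockIdem_blkG)
open Cfsg.Agent.Blocks.NilRank (redTrL redTrL_comm redTrL_conj liftA scoeff_liftA redA_liftA
  coeff_liftA_conj exists_max_trace)
open scoped Classical

universe u

variable {G : Type u} [Group G] [Fintype G] {M : Ideal AlgInt} [M.IsMaximal] {p : ℕ}
  [hp : Fact p.Prime] [CharP (AlgInt ⧸ M) p] {B : Set (IrrCharacter G)} {P : Subgroup G}
  {e : MonoidAlgebra (AlgInt ⧸ M) G}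

theorem conjEl_mem_fixedBy {g : G} (hg : g ∈ Subgroup.normalizer (P : Set G))
    {x : MonoidAlgebra (AlgInt ⧸ M) G} (hx : x ∈ fixedBy (AlgInt ⧸ M) P) :
    conjEl g x ∈ fixedBy (AlgInt ⧸ M) P := by
  rw [BrauerPairs.mem_fixedBy_iff_coeff] at hx ⊢
  intro u hu z
  rw [BrauerPairs.coeff_conjEl, BrauerPairs.coeff_conjEl,
    show g⁻¹ * (u * z * u⁻¹) * g = (g⁻¹ * u * g) * (g⁻¹ * z * g) * (g⁻¹ * u * g)⁻¹ by group]
  exact hx _ ((Subgroup.mem_normalizer_iff''.1 hg u).1 hu) _

namespace Setup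

variable (s : Setup p B P e)
include s

theorem exists_elt : ∃ χ₀ ∈ B, ∃ a : MonoidAlgebra ℂ G, SCoeff M a ∧
    (∀ v ∈ P, ∀ g, a.coeff (v * g * v⁻¹) = a.coeff g) ∧ red M (chiL χ₀.1 a) ≠ 0 ∧
    ∀ R, R ≤ P → br R (redA M a) * fR p P e R = br R (redA M a) := by
  have hblk : ∀ H : Subgroup G, BrauerPairs.HasBlocks (AlgInt ⧸ M) H := fun H => hasBlocks M H
  have hpM := s.hpM
  have hB := s.block
  have hBi := isBlockIdem_blkG hB
  obtain ⟨χ₀, hχ₀, hh⟩ := Blocks.exists_height_zero hpM hB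
  obtain ⟨-, a, -, haS, hinv, hat, -⟩ :=
    exists_max_trace hpM hB (BrauerPairs.isDefectGroup_of_isMax hB s.isMax) hχ₀ hh
  have hcl := irr_classFun χ₀
  have hchi : IsCharacter G χ₀.1 := Char.irr_isCharacter χ₀
  have hA : redA M a ∈ fixedBy (AlgInt ⧸ M) P :=
    BrauerPairs.mem_fixedBy_iff_coeff.2 fun v hv g => by
      rw [coeff_redA, coeff_redA, hinv v hv g]
  have htA : redTrL M χ₀.1 (blkG M B * redA M a) ≠ 0 := by
    have hfS : SCoeff M (blockIdem B) := scoeff_blockIdem hB
    show NilRank.redTr M χ₀.1 _ ≠ 0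
    rw [show blkG M B * redA M a = redA M (blockIdem B * a) by rw [redA_mul hfS haS]; rfl,
      ← NilRank.red_chiL hchi (hfS.mul haS),
      chiL_mul_of_central χ₀ (isCentralElt_blockIdem B), omega_blockIdem, if_pos hχ₀, one_mul]
    exact hat
  obtain ⟨x, e', hxP, htx, hpair, hloc⟩ := BrauerPairs.exists_local_elt hblk
    (Blocks.exists_pow_eq hpM) hBi (redTrL M χ₀.1) (redTrL_comm hcl) (redTrL_conj hcl)
    s.isPGroup hA htA
  obtain ⟨g, hg⟩ := BrauerPairs.exists_conj_ple hblk hBi s.isMax hpair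
  have hgP : P.map (MulAut.conj g).toMonoidHom = P :=
    Subgroup.eq_of_le_of_card_ge hg.le (BrauerPairs.card_map_conj g P).ge
  have hge : conjPair g (P, e') = (P, e) := Prod.ext hgP (congrArg Prod.snd (hg.eq_of_fst_eq hgP))
  have hgN : g ∈ Subgroup.normalizer (P : Set G) :=
    BrauerPairs.mem_normalizer_of_conj_le fun v hv => hgP.le ⟨v, hv, rfl⟩
  refine ⟨χ₀, hχ₀, liftA (conjEl g x), scoeff_liftA _,
    fun v hv z => coeff_liftA_conj (conjEl_mem_fixedBy hgN hxP) hv z, ?_, fun R hR => ?_⟩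
  · rw [NilRank.red_chiL hchi (scoeff_liftA _), redA_liftA]
    show redTrL M χ₀.1 (conjEl g x) ≠ 0
    rw [redTrL_conj hcl]
    exact htx
  · rw [redA_liftA]
    set R' := R.map (MulAut.conj g⁻¹).toMonoidHom with hR'
    have hRR : R'.map (MulAut.conj g).toMonoidHom = R := by
      rw [hR', Subgroup.map_map]
      convert Subgroup.map_id R using 2
      ext y
      simp [mul_assoc]
    have hR'P : R' ≤ P := by
      rintro _ ⟨v, hv, rfl⟩
      have := (Subgroup.mem_normalizer_iff''.1 hgN v).1 (hR hv)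
      simpa using this
    obtain ⟨f', hf'⟩ := BrauerPairs.exists_ple hblk hpair.1 R' hR'P
    have h := (hf'.conj g)
    rw [hge] at h
    have h' : PLE p (R'.map (MulAut.conj g).toMonoidHom, conjEl g f') (P, e) := h
    rw [hRR] at h'
    rw [fR_eq s.pair h', ← hRR, ← BrauerPairs.conjEl_br, ← map_mul,
      hloc R' hR'P f' hf']

end Setup

end Cfsg.Agent.FreeInertia
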