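import Cfsg.Agent.Lib.FreeInertia.Section
import Cfsg.Agent.Lib.FreeInertia.Element
import Cfsg.Agent.Lib.Blocks.NilpotentRank.TraceApprox

/-!
# Gluing the local trace functions

The trace functions of the blocks of `C(Q)`, `Q` a join of subgroups of order `p`, combine to a
function of absolute value one on `P ∖ 1` which turns the decomposition numbers of `B` into functions
congruent to trace functions modulo `|P|`.
-/

set_option autoImplicit false
set_option linter.unusedSectionVars false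
set_option linter.style.haveILetI false

namespace Cfsg.Agent.FreeInertia

open Cfsg Blocks MonoidAlgebra
open Cfsg.Agent.BrauerPairs (blk br conjEl PLE IsBlockIdem mapBlock compIrr stabOf)
open Cfsg.Agent.Blocks.NilRank (Cong IsTraceFun IsTw eU blkSet blkSet_spec blkSet_blk sectF
  cong_chiL_pow_trunc truncC_eq_inclA coeff_pow_conj zpowers_pow_of_not_dvd)
open scoped Classical ComplexConjugate

universe u

variable {G : Type u} [Group G] [Fintype G] {M : Ideal AlgInt} [M.IsMaximal] {p : ℕ}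
  [hp : Fact p.Prime] [CharP (AlgInt ⧸ M) p] {B : Set (IrrCharacter G)} {P : Subgroup G}
  {e : MonoidAlgebra (AlgInt ⧸ M) G}

theorem LH_conj (g : G) {H H' : Subgroup G} (hH : ∀ c, c ∈ H' ↔ g⁻¹ * c * g ∈ H)
    {f : MonoidAlgebra (AlgInt ⧸ M) G} (hf : IsBlockIdem H f) {θ : G → ℂ} (hθ : IsClassFunction G θ)
    {ν : H → ℂ} {ν' : H' → ℂ} {q q' : ℕ}
    (href : IsRef p (blkSet M H f) ν (refData M p H f).2 q)
    (href' : IsRef p (blkSet M H' (conjEl g f)) ν' (refData M p H' (conjEl g f)).2 q')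
    {x : G} (hx : x ∈ H) :
    LH M p H' (conjEl g f) θ (g * x * g⁻¹) = LH M p H f θ x := by
  have hx' : g * x * g⁻¹ ∈ H' := (hH _).2 (by
    rwa [show g⁻¹ * (g * x * g⁻¹) * g = x by group])
  obtain ⟨h1, h2⟩ := blkSet_spec hf
  set ι := BrauerPairs.conjIso g hH
  have hb : blkSet M H' (conjEl g f) = mapBlock ι (blkSet M H f) := by
    conv_lhs => rw [← h2, ← BrauerPairs.blk_mapBlock_conjIso g hH]
    exact blkSet_blk (BrauerPairs.isPBlock_mapBlock _ h1)
  rw [LH_eq hx', LH_eq hx, hb]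
  rw [hb] at href'
  have hd := href'.unique (href.comp ι)
  have hcoe : ∀ c : H', ((ι c : H) : G) = g⁻¹ * (c : G) * g := fun c => rfl
  have hfun : (fun t : H' => θ t) = fun t : H' => θ ((ι t : H) : G) := by
    funext t
    rw [hcoe, ← hθ (g⁻¹ * (t : G) * g) g]
    congr 1
    group
  have hz : ι (⟨g * x * g⁻¹, hx'⟩ : H') = ⟨x, hx⟩ := Subtype.ext (by rw [hcoe]; group)
  conv_lhs => rw [hfun]
  rw [← hz, ← Lc_comp ι (blkSet M H f) (refData M p H f).2 (fun t : H => θ t)]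
  refine Finset.sum_congr rfl fun η hη => ?_
  rw [hd η (Finset.mem_filter.1 hη).2]

variable (M p) in
/-- The decomposition numbers of `χ` along the powers of `v`. -/
noncomputable def Lfun (P : Subgroup G) (e : MonoidAlgebra (AlgInt ⧸ M) G) (χ : G → ℂ) (v : G)
    (t : ℕ) : ℂ :=
  LH M p (Subgroup.centralizer (Subgroup.zpowers v : Set G)) (fR p P e (Subgroup.zpowers v)) χ (v ^ t)

namespace Setup

variable (s : Setup p B P e)
include s

theorem zpowers_ne_bot {v : G} (hv1 : v ≠ 1) : Subgroup.zpowers v ≠ ⊥ :=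
  fun h => hv1 (Subgroup.zpowers_eq_bot.1 h)

theorem isTw_Lfun {v : G} (hv : v ∈ P) {D : ℕ} (hD : Nat.card P = p ^ D) (χ : IrrCharacter G) :
    IsTw (p ^ D * p) (Lfun M p P e χ.1 v) := by
  obtain ⟨hC, hc⟩ := s.central_mem (Subgroup.mem_zpowers v) (Subgroup.zpowers_le.2 hv)
  exact isTw_LH _ (Char.IsCharacter.restrict (Char.irr_isCharacter χ) _) hC
    (fun y hy => congrArg Subtype.val (hc ⟨y, hy⟩).eq) (s.pow_card_p hv hD)

theorem Lfun_pow {v : G} (hv : v ∈ P) {t : ℕ} (ht : ¬ p ∣ t) (χ : G → ℂ) :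
    Lfun M p P e χ v t = Lfun M p P e χ (v ^ t) 1 := by
  rw [Lfun, Lfun, zpowers_pow_of_not_dvd s.isPGroup hv ht, pow_one]

theorem Lfun_conj {g v : G} (hg : g ∈ stabOf P e) (hv : v ∈ P) (hv1 : v ≠ 1) (χ : IrrCharacter G) :
    Lfun M p P e χ.1 (g * v * g⁻¹) 1 = Lfun M p P e χ.1 v 1 := by
  have hv' : g * v * g⁻¹ ∈ P := (Subgroup.mem_normalizer_iff.1 hg.1 v).1 hv
  have hv1' : g * v * g⁻¹ ≠ 1 := fun h => hv1 (by simpa using h)
  have hR := Subgroup.zpowers_le.2 hv
  have hR' := Subgroup.zpowers_le.2 hv'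
  have hf : fR p P e (Subgroup.zpowers (g * v * g⁻¹)) = conjEl g (fR p P e (Subgroup.zpowers v)) := by
    rw [fR_zpowers s.pair hv', fR_zpowers s.pair hv, Watanabe.eU_stab s.pair hv hg]
  have hH : ∀ c, c ∈ Subgroup.centralizer (Subgroup.zpowers (g * v * g⁻¹) : Set G) ↔
      g⁻¹ * c * g ∈ Subgroup.centralizer (Subgroup.zpowers v : Set G) := fun c => by
    simp only [Blocks.centralizer_zpowers_eq, Subgroup.mem_centralizer_singleton_iff]
    constructor
    · intro h
      have := congrArg (fun y => g⁻¹ * y * g) h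
      simpa [mul_assoc] using this
    · intro h
      have := congrArg (fun y => g * y * g⁻¹) h
      simpa [mul_assoc] using this
  rw [Lfun, Lfun, pow_one, pow_one, hf]
  have href' := s.isRef hR' (s.zpowers_ne_bot hv1')
  rw [hf] at href'
  exact LH_conj g hH (isBlockIdem_fR s.pair hR) (irr_classFun χ) (s.isRef hR (s.zpowers_ne_bot hv1))
    href' ((s.central_mem (Subgroup.mem_zpowers v) hR).1)

theorem Lfun_sect_aux {H : Subgroup G} {v : G} (hH : H = Subgroup.centralizer ({v} : Set G))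
    {f : MonoidAlgebra (AlgInt ⧸ M) G} (hf : f = eU p P e v) {ν : H → ℂ} {q : ℕ}
    (href : IsRef p (blkSet M H f) ν (refData M p H f).2 q) (hv : v ∈ P)
    (χ ψ : IrrCharacter G) :
    LH M p H f χ.1 v * conj (LH M p H f ψ.1 v) =
      (q : ℂ) * sectF p (Subgroup.centralizer ({v} : Set G)) v
        (blkSet M (Subgroup.centralizer ({v} : Set G)) (eU p P e v)) χ.1 ψ.1 := by
  subst hH hf
  have hvC : v ∈ Subgroup.centralizer ({v} : Set G) := Subgroup.mem_centralizer_singleton_iff.2 rfl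
  have hc : ∀ y : Subgroup.centralizer ({v} : Set G),
      Commute (⟨v, hvC⟩ : Subgroup.centralizer ({v} : Set G)) y := fun y =>
    Subtype.ext (Subgroup.mem_centralizer_singleton_iff.1 y.2).symm
  rw [sectF_eq_secH _ hvC, href.secH_eq s.hpM (blkSet_spec (NilRank.isBlockIdem_eU s.pair hv)).1 hc
    (Char.IsCharacter.restrict (Char.irr_isCharacter χ) _)
    (Char.IsCharacter.restrict (Char.irr_isCharacter ψ) _), LH_eq hvC, LH_eq hvC]

theorem Lfun_sect {v : G} (hv : v ∈ P) (hv1 : v ≠ 1) (χ ψ : IrrCharacter G) :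
    Lfun M p P e χ.1 v 1 * conj (Lfun M p P e ψ.1 v 1) =
      (Nat.card P : ℂ) * sectF p (Subgroup.centralizer ({v} : Set G)) v
        (blkSet M (Subgroup.centralizer ({v} : Set G)) (eU p P e v)) χ.1 ψ.1 := by
  rw [Lfun, Lfun, pow_one]
  exact s.Lfun_sect_aux Blocks.centralizer_zpowers_eq (fR_zpowers s.pair hv)
    (s.isRef (Subgroup.zpowers_le.2 hv) (s.zpowers_ne_bot hv1)) hv χ ψ

theorem cong_top {a : MonoidAlgebra ℂ G} (haS : SCoeff M a)
    (hinv : ∀ v ∈ P, ∀ g, a.coeff (v * g * v⁻¹) = a.coeff g) {H : Subgroup G} {v : G}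
    (hH : H = Subgroup.centralizer ({v} : Set G)) (hv : v ∈ P) (hvH : v ∈ H) (χ : IrrCharacter G)
    (n : ℕ) :
    Cong M p n (chiL χ.1 (single v 1 * a ^ p ^ n))
      (chiL (fun t : H => χ.1 t) (single ⟨v, hvH⟩ 1 * resH H a ^ p ^ n)) := by
  subst hH
  obtain ⟨k, hk⟩ := NilRank.exists_orderOf_mem s.isPGroup hv
  have h := cong_chiL_pow_trunc (M := M) (u := v) (k := k) (by rw [← hk, pow_orderOf_eq_one]) haS
    (hinv v hv) (Char.irr_isCharacter χ) n
  rwa [truncC_eq_inclA, ← map_pow, show single v (1 : ℂ) =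
    inclA (Subgroup.centralizer ({v} : Set G)) (single ⟨v, hvH⟩ 1) from
      (inclA_single (⟨v, hvH⟩ : Subgroup.centralizer ({v} : Set G)) (1 : ℂ)).symm,
    ← map_mul, chiL_inclA, inclA_single] at h

/-- The phase function. -/
theorem exists_phase {D : ℕ} (hD : Nat.card P = p ^ D) (hD0 : D ≠ 0) :
    ∃ ζ : P → ℕ → ℂ, (∀ v, IsTw (p ^ D * p) (ζ v)) ∧
      (∀ v : P, ∀ t, ¬ p ∣ t → ζ v t = ζ (v ^ t) 1) ∧
      (∀ v : P, ζ v 1 * conj (ζ v 1) = 1) ∧
      ∃ χ₀ ∈ B, ∃ g : IrrCharacter G → P → ℂ, (∀ χ, InR M p D (g χ)) ∧ red M (g χ₀ 1) ≠ 0 ∧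
        ∀ χ, ∀ v : P, v ≠ 1 → g χ v = Lfun M p P e χ.1 v 1 * ζ v 1 := by
  have hpM := s.hpM
  have hP := s.isPGroup
  haveI : Fintype (Subgroup G) := Fintype.ofFinite _
  obtain ⟨χ₀, hχ₀, a, haS, hinv, hat, hloc⟩ := s.exists_elt
  have hn₀ : ∀ q : {q : Subgroup G × G // q.1 ≤ P ∧ q.1 ≠ ⊥ ∧ q.2 ∈ q.1}, ∃ n₀ : ℕ,
      ∀ n, n₀ ≤ n → ∀ (hxC : q.1.2 ∈ Subgroup.centralizer (q.1.1 : Set G)) (θ : G → ℂ),
        IsCharacter (Subgroup.centralizer (q.1.1 : Set G))
          (fun t : Subgroup.centralizer (q.1.1 : Set G) => θ t) →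
        Cong M p D (chiL (fun t : Subgroup.centralizer (q.1.1 : Set G) => θ t)
            (single ⟨q.1.2, hxC⟩ 1 * resH (Subgroup.centralizer (q.1.1 : Set G)) a ^ p ^ n))
          (LH M p (Subgroup.centralizer (q.1.1 : Set G)) (fR p P e q.1.1) θ q.1.2 *
            muH M p (Subgroup.centralizer (q.1.1 : Set G)) (fR p P e q.1.1) a n) := fun q => by
    obtain ⟨n₀, hn₀⟩ := s.exists_cong_section haS hloc D q.2.1 q.2.2.1 q.2.2.2
      (s.central_mem q.2.2.2 q.2.1).1
    exact ⟨n₀, fun n hn _ θ hθ => hn₀ n hn θ hθ⟩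
  choose n₀ hn₀ using hn₀
  set n := D + ∑ q, n₀ q with hn
  have hsec : ∀ (R : Subgroup G) (x : G) (hR : R ≤ P) (hR1 : R ≠ ⊥) (hx : x ∈ R)
      (hxC : x ∈ Subgroup.centralizer (R : Set G)) (θ : G → ℂ),
      IsCharacter (Subgroup.centralizer (R : Set G)) (fun t : Subgroup.centralizer (R : Set G) => θ t) →
      Cong M p D (chiL (fun t : Subgroup.centralizer (R : Set G) => θ t)
          (single ⟨x, hxC⟩ 1 * resH (Subgroup.centralizer (R : Set G)) a ^ p ^ n))
        (LH M p (Subgroup.centralizer (R : Set G)) (fR p P e R) θ x *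
          muH M p (Subgroup.centralizer (R : Set G)) (fR p P e R) a n) := fun R x hR hR1 hx =>
    hn₀ ⟨(R, x), hR, hR1, hx⟩ n
      ((Finset.single_le_sum (fun w _ => Nat.zero_le (n₀ w)) (Finset.mem_univ _)).trans
        (Nat.le_add_left _ D))
  let μ : Subgroup G → ℂ := fun R =>
    muH M p (Subgroup.centralizer (R : Set G)) (fR p P e R) a n
  -- traces in `G`
  let T : IrrCharacter G → P → ℂ := fun χ v => chiL χ.1 (single (v : G) 1 * a ^ p ^ n)
  have hT : ∀ χ, InR M p D (T χ) := fun χ => InR.of_trace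
    ⟨G, inferInstance, inferInstance, χ.1, P.subtype, a ^ p ^ n, Char.irr_isCharacter χ, haS.pow _,
      fun v g => coeff_pow_conj (hinv _ v.2) _ g, fun _ => rfl⟩
  have hT1 : red M (T χ₀ 1) ≠ 0 := by
    show red M (chiL χ₀.1 (single ((1 : P) : G) 1 * a ^ p ^ n)) ≠ 0
    rw [NilRank.red_trace_single hpM (Char.irr_isCharacter χ₀) (k := 0) (by simp) haS
      (fun g => by simp) n]
    exact pow_ne_zero _ hat
  have hTc : ∀ χ, ∀ v : P, v ≠ 1 → Cong M p D (T χ v)
      (Lfun M p P e χ.1 v 1 * μ (Subgroup.zpowers (v : G))) := by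
    intro χ v hv
    have hR : Subgroup.zpowers (v : G) ≤ P := Subgroup.zpowers_le.2 v.2
    obtain ⟨hvC, -⟩ := s.central_mem (Subgroup.mem_zpowers (v : G)) hR
    have h1 := s.cong_top haS hinv (H := Subgroup.centralizer (Subgroup.zpowers (v : G) : Set G))
      Blocks.centralizer_zpowers_eq v.2 hvC χ n
    have h2 := hsec _ _ hR (s.zpowers_ne_bot fun h => hv (Subtype.ext h)) (Subgroup.mem_zpowers _) hvC χ.1
      (Char.IsCharacter.restrict (Char.irr_isCharacter χ) _)
    rw [Lfun, pow_one]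
    exact (h1.mono (by omega)).trans h2
  have hLR : ∀ χ : IrrCharacter G, ∀ v : P, MemLocalRing M (Lfun M p P e χ.1 v 1) := fun χ v =>
    memLocalRing_of_isIntegral ((s.isTw_Lfun v.2 hD χ).isIntegral
      (mul_ne_zero (pow_ne_zero _ hp.out.ne_zero) hp.out.ne_zero) 1)
  -- height zero characters of the local blocks
  have hη : ∀ Q : {Q : Subgroup G // Q ≤ P},
      ∃ η : IrrCharacter (Subgroup.centralizer (Q.1 : Set G)),
      η ∈ blkSet M (Subgroup.centralizer (Q.1 : Set G)) (fR p P e Q.1) ∧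
      blockHeight p (blkSet M (Subgroup.centralizer (Q.1 : Set G)) (fR p P e Q.1)) η.1 = 0 := fun Q =>
    Blocks.exists_height_zero hpM (s.block_spec Q.2).1
  choose η hηb hηh using hη
  let ε : ∀ Q : Subgroup G, Q ≤ P → P → ℕ → ℂ := fun Q hQ v t =>
    LH M p (Subgroup.centralizer ((Q ⊔ Subgroup.zpowers (v : G) : Subgroup G) : Set G))
      (fR p P e (Q ⊔ Subgroup.zpowers (v : G))) (extFun (η ⟨Q, hQ⟩).1) ((v : G) ^ t)
  have hjoin : ∀ {Q : Subgroup G}, Q ≤ P → ∀ v : P, Q ⊔ Subgroup.zpowers (v : G) ≤ P :=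
    fun hQ v => sup_le hQ (Subgroup.zpowers_le.2 v.2)
  have hεchar : ∀ (Q : Subgroup G) (hQ : Q ≤ P) (v : P), IsCharacter
      (Subgroup.centralizer ((Q ⊔ Subgroup.zpowers (v : G) : Subgroup G) : Set G))
      (fun t : Subgroup.centralizer ((Q ⊔ Subgroup.zpowers (v : G) : Subgroup G) : Set G) =>
        extFun (η ⟨Q, hQ⟩).1 t) := fun Q hQ v =>
    isCharacter_extFun (Subgroup.centralizer_le (SetLike.coe_subset_coe.2 le_sup_left))
      (Char.irr_isCharacter _)
  have hεtw : ∀ Q (hQ : Q ≤ P) (v : P), IsTw (p ^ D * p) (ε Q hQ v) := fun Q hQ v => by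
    obtain ⟨hvC, hc⟩ := s.central_mem (x := (v : G))
      (Subgroup.mem_sup_right (Subgroup.mem_zpowers (v : G))) (hjoin hQ v)
    exact isTw_LH _ (hεchar Q hQ v) hvC (fun y hy => congrArg Subtype.val (hc ⟨y, hy⟩).eq)
      (s.pow_card_p v.2 hD)
  have hεpow : ∀ Q (hQ : Q ≤ P) (v : P) t, ¬ p ∣ t → ε Q hQ v t = ε Q hQ (v ^ t) 1 := by
    intro Q hQ v t ht
    simp only [ε, SubmonoidClass.coe_pow, pow_one]
    rw [zpowers_pow_of_not_dvd hP v.2 ht]
  have hεone : ∀ Q (hQ : Q ≤ P), Q ≠ ⊥ → ∀ v : P, ε Q hQ v 1 * conj (ε Q hQ v 1) = 1 := by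
    intro Q hQ hQ1 v
    simp only [ε, pow_one]
    exact s.LH_height_zero hQ hQ1 (hηb ⟨Q, hQ⟩) (hηh ⟨Q, hQ⟩) v.2
  have hεR : ∀ Q (hQ : Q ≤ P) (v : P), MemLocalRing M (ε Q hQ v 1) := fun Q hQ v =>
    memLocalRing_of_isIntegral ((hεtw Q hQ v).isIntegral
      (mul_ne_zero (pow_ne_zero _ hp.out.ne_zero) hp.out.ne_zero) 1)
  -- traces in the centralizers
  let Y : ∀ Q : Subgroup G, Q ≤ P → P → ℂ := fun Q hQ v => chiL (η ⟨Q, hQ⟩).1
    (single (Subgroup.inclusion (s.le_centralizer hQ) v) 1 *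
      resH (Subgroup.centralizer (Q : Set G)) a ^ p ^ n)
  have hY : ∀ Q (hQ : Q ≤ P), InR M p D (Y Q hQ) := fun Q hQ => InR.of_trace
    ⟨Subgroup.centralizer (Q : Set G), inferInstance, inferInstance, (η ⟨Q, hQ⟩).1,
      Subgroup.inclusion (s.le_centralizer hQ), _, Char.irr_isCharacter _,
      (scoeff_resH haS).pow _, fun v g => coeff_pow_conj
        (fun g => by simp only [coeff_resH]; exact hinv v v.2 _) _ g, fun _ => rfl⟩
  have hYc : ∀ Q (hQ : Q ≤ P), Q ≠ ⊥ → ∀ v : P, Cong M p D (Y Q hQ v)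
      (ε Q hQ v 1 * μ (Q ⊔ Subgroup.zpowers (v : G))) := by
    intro Q hQ hQ1 v
    obtain ⟨hvC, -⟩ := s.central_mem (x := (v : G))
      (Subgroup.mem_sup_right (Subgroup.mem_zpowers (v : G))) (hjoin hQ v)
    have h1 := s.cong_trunc haS hinv (K := Subgroup.centralizer (Q : Set G))
      (Subgroup.centralizer_le (SetLike.coe_subset_coe.2 le_sup_left))
      (v := (v : G)) (by rw [BrauerPairs.centralizer_sup_eq, Blocks.centralizer_zpowers_eq]) v.2
      (η ⟨Q, hQ⟩) n (s.le_centralizer hQ v.2) hvC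
    have h2 := hsec _ _ (hjoin hQ v) (fun h => hQ1 (le_bot_iff.1 (h ▸ le_sup_left)))
      (Subgroup.mem_sup_right (Subgroup.mem_zpowers (v : G))) hvC _ (hεchar Q hQ v)
    have h3 := (h1.mono (show D ≤ n by omega)).trans h2
    simp only [ε, pow_one]
    exact h3
  -- units
  have hμR : ∀ R, MemLocalRing M (μ R) := fun R => by
    have : ∀ g, MemLocalRing M
        ((refData M p (Subgroup.centralizer (R : Set G)) (fR p P e R)).1 g) := by
      intro g
      unfold refData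
      split_ifs with h
      · obtain ⟨ν₀, -, hν⟩ := h.choose_spec.mem
        rw [hν]
        exact NilRank.memLocalRing_char (Char.irr_isCharacter ν₀) g
      · exact memLocalRing_zero
    exact Blocks.memLocalRing_chiL this ((scoeff_resH haS).pow _)
  have hbase : ∀ v : P, v ≠ 1 → ¬ MemLocalIdeal M (μ (Subgroup.zpowers (v : G))) := by
    intro v hv h
    refine (hT χ₀).not_memLocalIdeal hpM hD0 hP hT1 v ?_
    exact memLocalIdeal_of_sub ((hTc χ₀ v hv).memLocalIdeal hpM hD0)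
      (MemLocalIdeal.mul_left (hLR χ₀ v) h)
  have hext : ∀ Q (hQ : Q ≤ P), Q ≠ ⊥ → ¬ MemLocalIdeal M (μ Q) →
      red M (Y Q hQ 1) ≠ 0 ∧ ∀ v : P, ¬ MemLocalIdeal M (μ (Q ⊔ Subgroup.zpowers (v : G))) := by
    intro Q hQ hQ1 hμ
    have hQ' : Q ⊔ Subgroup.zpowers ((1 : P) : G) = Q := by simp
    have h1 : red M (Y Q hQ 1) ≠ 0 := by
      intro h
      have h2 : MemLocalIdeal M (ε Q hQ 1 1 * μ (Q ⊔ Subgroup.zpowers ((1 : P) : G))) :=
        (Blocks.memLocalIdeal_iff_of_sub ((hYc Q hQ hQ1 1).memLocalIdeal hpM hD0)).1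
          ((red_eq_zero_iff ((hY Q hQ).memLocalRing 1)).1 h)
      rw [hQ'] at h2
      have hε : MemLocalRing M (conj (ε Q hQ 1 1)) := memLocalRing_of_isIntegral
        ((isTw_conj (hεtw Q hQ 1)).isIntegral
          (mul_ne_zero (pow_ne_zero _ hp.out.ne_zero) hp.out.ne_zero) 1)
      have h3 := MemLocalIdeal.mul_left hε h2
      rw [← mul_assoc, mul_comm (conj _), hεone Q hQ hQ1 1, one_mul] at h3
      exact hμ h3
    refine ⟨h1, fun v hv => (hY Q hQ).not_memLocalIdeal hpM hD0 hP h1 v ?_⟩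
    exact memLocalIdeal_of_sub ((hYc Q hQ hQ1 v).memLocalIdeal hpM hD0)
      (MemLocalIdeal.mul_left (hεR Q hQ v) hv)
  have hunit : ∀ R, R ≤ P → R ≠ ⊥ → ¬ MemLocalIdeal M (μ R) := by
    intro R hR hR1
    obtain ⟨⟨v, hv⟩, hv1⟩ := (Subgroup.ne_bot_iff_exists_ne_one (H := R)).1 hR1
    have hv1' : v ≠ 1 := fun h => hv1 (Subtype.ext h)
    let 𝒬 : Finset (Subgroup G) := Finset.univ.filter fun Q =>
      Subgroup.zpowers v ≤ Q ∧ Q ≤ R ∧ ¬ MemLocalIdeal M (μ Q)
    have hne : 𝒬.Nonempty := ⟨Subgroup.zpowers v, Finset.mem_filter.2 ⟨Finset.mem_univ _, le_rfl,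
      Subgroup.zpowers_le.2 hv, hbase ⟨v, hR hv⟩ fun h => hv1' (congrArg Subtype.val h)⟩⟩
    obtain ⟨Q, hQ, hQmax⟩ := Finset.exists_max_image 𝒬 (fun Q => Nat.card Q) hne
    obtain ⟨-, hvQ, hQR, hμQ⟩ := Finset.mem_filter.1 hQ
    have hQ1 : Q ≠ ⊥ := fun h => s.zpowers_ne_bot hv1' (le_bot_iff.1 (h ▸ hvQ))
    suffices hRQ : R ≤ Q by
      rwa [le_antisymm hRQ hQR]
    intro w hw
    have hmem : Q ⊔ Subgroup.zpowers w ∈ 𝒬 := Finset.mem_filter.2 ⟨Finset.mem_univ _,
      hvQ.trans le_sup_left, sup_le hQR (Subgroup.zpowers_le.2 hw),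
      (hext Q (hQR.trans hR) hQ1 hμQ).2 ⟨w, hR hw⟩⟩
    rw [Subgroup.eq_of_le_of_card_ge le_sup_left (hQmax _ hmem)]
    exact Subgroup.mem_sup_right (Subgroup.mem_zpowers w)
  -- the index sets
  let Ls : Finset (Subgroup G) := Finset.univ.filter fun L => L ≤ P ∧ Nat.card L = p
  let odds : Finset (Finset (Subgroup G)) := Ls.powerset.filter fun S => Odd S.card
  let evens : Finset (Finset (Subgroup G)) := Ls.powerset.filter fun S => ¬ Odd S.card
  let J : Finset (Subgroup G) → Subgroup G := fun S => S.sup id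
  have hJ : ∀ S ∈ Ls.powerset, J S ≤ P := fun S hS => Finset.sup_le fun L hL =>
    (Finset.mem_filter.1 (Finset.mem_powerset.1 hS hL)).2.1
  have hJ1 : ∀ S ∈ Ls.powerset, S.Nonempty → J S ≠ ⊥ := by
    intro S hS ⟨L, hL⟩ h
    have hle : L ≤ J S := Finset.le_sup (f := id) hL
    rw [h, le_bot_iff] at hle
    have hc := (Finset.mem_filter.1 (Finset.mem_powerset.1 hS hL)).2.2
    rw [hle, Subgroup.card_bot] at hc
    exact hp.out.ne_one hc.symm
  let εS : Finset (Subgroup G) → P → ℕ → ℂ := fun S v t =>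
    if h : J S ≤ P then ε (J S) h v t else 1
  let YS : Finset (Subgroup G) → P → ℂ := fun S v => if h : J S ≤ P then Y (J S) h v else 1
  have hεS : ∀ S ∈ Ls.powerset, S.Nonempty → ∀ v, εS S v 1 * conj (εS S v 1) = 1 := fun S hS hne v => by
    simp only [εS, dif_pos (hJ S hS)]
    exact hεone _ _ (hJ1 S hS hne) v
  have hεStw : ∀ S v, IsTw (p ^ D * p) (εS S v) := fun S v => by
    by_cases h : J S ≤ P
    · simpa only [εS, dif_pos h] using hεtw _ h v
    · simpa only [εS, dif_neg h, Int.cast_one] using IsTw.intCast (N := p ^ D * p) 1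
  have hεSpow : ∀ S (v : P) t, ¬ p ∣ t → εS S v t = εS S (v ^ t) 1 := fun S v t ht => by
    by_cases h : J S ≤ P
    · simp only [εS, dif_pos h]
      exact hεpow _ h v t ht
    · simp only [εS, dif_neg h]
  have hYS : ∀ S, InR M p D (YS S) := fun S => by
    by_cases h : J S ≤ P
    · simp only [YS, dif_pos h]
      exact hY _ h
    · simp only [YS, dif_neg h]
      exact InR.one
  have hYS1 : ∀ S ∈ Ls.powerset, S.Nonempty → red M (YS S 1) ≠ 0 := fun S hS hne => by
    simp only [YS, dif_pos (hJ S hS)]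
    exact (hext _ (hJ S hS) (hJ1 S hS hne) (hunit _ (hJ S hS) (hJ1 S hS hne))).1
  have hYSc : ∀ S ∈ Ls.powerset, S.Nonempty → ∀ v : P,
      Cong M p D (YS S v) (εS S v 1 * μ (J S ⊔ Subgroup.zpowers (v : G))) := fun S hS hne v => by
    simp only [YS, εS, dif_pos (hJ S hS)]
    exact hYc _ _ (hJ1 S hS hne) v
  have hodd_ne : ∀ S ∈ odds, S.Nonempty := fun S hS =>
    Finset.card_pos.1 (Finset.mem_filter.1 hS).2.pos
  have heven_ne : ∀ S ∈ evens.erase ∅, S.Nonempty := fun S hS =>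
    Finset.nonempty_iff_ne_empty.2 (Finset.mem_erase.1 hS).1
  have hoddR : InR M p D fun v => ∏ S ∈ odds, YS S v := InR.prod _ fun S _ => hYS S
  obtain ⟨Ginv, hGinv, hGc⟩ := hoddR.exists_inv hpM hD0 hP (by
    rw [red_prod _ fun S _ => (hYS S).memLocalRing 1, Finset.prod_ne_zero_iff]
    exact fun S hS => hYS1 S (Finset.mem_filter.1 hS).1 (hodd_ne S hS))
  let ζ : P → ℕ → ℂ := fun v t =>
    (∏ S ∈ evens.erase ∅, εS S v t) * ∏ S ∈ odds, conj (εS S v t)
  let g : IrrCharacter G → P → ℂ := fun χ v =>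
    if v = 1 then T χ v * ((∏ S ∈ evens.erase ∅, YS S v) * Ginv v)
    else Lfun M p P e χ.1 v 1 * ζ v 1
  -- cancellation
  have hcancel : ∀ v : P, v ≠ 1 → ∏ S ∈ evens, μ (J S ⊔ Subgroup.zpowers (v : G)) =
      ∏ S ∈ odds, μ (J S ⊔ Subgroup.zpowers (v : G)) := by
    intro v hv
    obtain ⟨k, hk⟩ := NilRank.exists_orderOf_mem hP v.2
    have hk0 : k ≠ 0 := fun h => hv (Subtype.ext (orderOf_eq_one_iff.1 (by rw [hk, h, pow_zero])))
    obtain ⟨y, hy⟩ := exists_prime_orderOf_dvd_card' (G := Subgroup.zpowers (v : G)) p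
      (by rw [Nat.card_zpowers, hk]; exact dvd_pow_self p hk0)
    set Z := Subgroup.zpowers (y : G) with hZ
    have hZv : Z ≤ Subgroup.zpowers (v : G) := Subgroup.zpowers_le.2 y.2
    have hZL : Z ∈ Ls := Finset.mem_filter.2 ⟨Finset.mem_univ _,
      hZv.trans (Subgroup.zpowers_le.2 v.2), by rw [hZ, Nat.card_zpowers, Subgroup.orderOf_coe, hy]⟩
    have hins : ∀ S : Finset (Subgroup G),
        J (insert Z S) ⊔ Subgroup.zpowers (v : G) = J S ⊔ Subgroup.zpowers (v : G) := fun S => by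
      simp only [J, Finset.sup_insert, id_eq]
      exact le_antisymm (sup_le (sup_le (hZv.trans le_sup_right) le_sup_left) le_sup_right)
        (sup_le (le_sup_right.trans le_sup_left) le_sup_right)
    let tog : Finset (Subgroup G) → Finset (Subgroup G) := fun S =>
      if Z ∈ S then S.erase Z else insert Z S
    have htog : ∀ S, tog (tog S) = S := fun S => by
      by_cases h : Z ∈ S
      · simp [tog, h]
      · simp [tog, h]
    have hpar : ∀ S, (Odd (tog S).card ↔ ¬ Odd S.card) := fun S => by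
      by_cases h : Z ∈ S
      · simp only [tog, if_pos h]
        rw [← Finset.card_erase_add_one h, Nat.odd_add_one, not_not]
      · simp only [tog, if_neg h, Finset.card_insert_of_notMem h, Nat.odd_add_one]
    have hsub : ∀ S ∈ Ls.powerset, tog S ∈ Ls.powerset := fun S hS => by
      rw [Finset.mem_powerset] at hS ⊢
      simp only [tog]
      split_ifs
      · exact (Finset.erase_subset _ _).trans hS
      · exact Finset.insert_subset hZL hS
    have hval : ∀ S, μ (J S ⊔ Subgroup.zpowers (v : G)) =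
        μ (J (tog S) ⊔ Subgroup.zpowers (v : G)) := fun S => by
      by_cases h : Z ∈ S
      · simp only [tog, if_pos h]
        conv_lhs => rw [← Finset.insert_erase h, hins]
      · simp only [tog, if_neg h, hins]
    refine Finset.prod_nbij' tog tog (fun S hS => ?_) (fun S hS => ?_) (fun S _ => htog S)
      (fun S _ => htog S) (fun S _ => hval S)
    · obtain ⟨h1, h2⟩ := Finset.mem_filter.1 hS
      exact Finset.mem_filter.2 ⟨hsub S h1, (hpar S).2 h2⟩
    · obtain ⟨h1, h2⟩ := Finset.mem_filter.1 hS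
      exact Finset.mem_filter.2 ⟨hsub S h1, fun h => (hpar S).1 h h2⟩
  have hmain : ∀ χ, ∀ v : P, v ≠ 1 →
      Cong M p D (T χ v * ((∏ S ∈ evens.erase ∅, YS S v) * Ginv v))
        (Lfun M p P e χ.1 v 1 * ζ v 1) := by
    intro χ v hv
    set mv : Finset (Subgroup G) → ℂ := fun S => μ (J S ⊔ Subgroup.zpowers (v : G)) with hmv
    have hA : Cong M p D (∏ S ∈ evens.erase ∅, YS S v) (∏ S ∈ evens.erase ∅, εS S v 1 * mv S) :=
      cong_prod _ (fun S hS => hYSc S (Finset.mem_filter.1 (Finset.mem_erase.1 hS).2).1 (heven_ne S hS) v)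
        fun S _ => (hYS S).memLocalRing v
    have hO : Cong M p D (∏ S ∈ odds, YS S v) (∏ S ∈ odds, εS S v 1 * mv S) :=
      cong_prod _ (fun S hS => hYSc S (Finset.mem_filter.1 hS).1 (hodd_ne S hS) v)
        fun S _ => (hYS S).memLocalRing v
    have hempty : ∅ ∈ evens := Finset.mem_filter.2 ⟨Finset.empty_mem_powerset _, by simp⟩
    have hA' : MemLocalRing M (∏ S ∈ evens.erase ∅, YS S v) :=
      MemLocalRing.prod _ fun S _ => (hYS S).memLocalRing v
    have hμv : mv ∅ = μ (Subgroup.zpowers (v : G)) := by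
      simp [hmv, J]
    have hG' := hGinv.memLocalRing v
    have h1 : Cong M p D (T χ v * ((∏ S ∈ evens.erase ∅, YS S v) * Ginv v))
        (Lfun M p P e χ.1 v 1 * mv ∅ * ((∏ S ∈ evens.erase ∅, εS S v 1 * mv S) * Ginv v)) := by
      refine (hTc χ v hv).mul (hA.mul_right hG') ?_ (MemLocalRing.mul hA' hG') |>.trans ?_
      · exact MemLocalRing.mul (hLR χ v) (hμR _)
      · rw [hμv]
        exact Cong.refl _ _
    refine h1.trans ?_
    have hid : mv ∅ * ∏ S ∈ evens.erase ∅, εS S v 1 * mv S =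
        ζ v 1 * ∏ S ∈ odds, εS S v 1 * mv S := by
      rw [Finset.prod_mul_distrib, mul_left_comm, Finset.mul_prod_erase _ mv hempty,
        show ∏ S ∈ evens, mv S = ∏ S ∈ odds, mv S from hcancel v hv]
      simp only [ζ]
      rw [mul_assoc, ← Finset.prod_mul_distrib]
      congr 1
      refine Finset.prod_congr rfl fun S hS => ?_
      rw [← mul_assoc, mul_comm (conj _), hεS S (Finset.mem_filter.1 hS).1 (hodd_ne S hS) v, one_mul]
    rw [show Lfun M p P e χ.1 v 1 * mv ∅ * ((∏ S ∈ evens.erase ∅, εS S v 1 * mv S) * Ginv v) =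
      Lfun M p P e χ.1 v 1 * ζ v 1 * ((∏ S ∈ odds, εS S v 1 * mv S) * Ginv v) by
        linear_combination (Lfun M p P e χ.1 v 1 * Ginv v) * hid]
    have hL : MemLocalRing M (Lfun M p P e χ.1 v 1 * ζ v 1) := by
      refine MemLocalRing.mul (hLR χ v) (memLocalRing_of_isIntegral (IsTw.isIntegral
        (mul_ne_zero (pow_ne_zero _ hp.out.ne_zero) hp.out.ne_zero) (IsTw.mul
          (IsTw.prod _ fun S _ => hεStw S v) (IsTw.prod _ fun S _ => isTw_conj (hεStw S v))) 1))
    simpa using ((hO.symm.mul_right hG').trans (hGc v)).mul_left hL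
  refine ⟨ζ, fun v => IsTw.mul (IsTw.prod _ fun S _ => hεStw S v)
    (IsTw.prod _ fun S _ => isTw_conj (hεStw S v)), fun v t ht => ?_, fun v => ?_, χ₀, hχ₀, g,
    fun χ => ?_, ?_, fun χ v hv => if_neg hv⟩
  · simp only [ζ]
    exact congrArg₂ (· * ·) (Finset.prod_congr rfl fun S _ => hεSpow S v t ht)
      (Finset.prod_congr rfl fun S _ => by rw [hεSpow S v t ht])
  · simp only [ζ, map_mul, map_prod, Complex.conj_conj]
    rw [mul_mul_mul_comm, ← Finset.prod_mul_distrib, ← Finset.prod_mul_distrib,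
      Finset.prod_eq_one fun S hS => hεS S (Finset.mem_filter.1 (Finset.mem_erase.1 hS).2).1
        (heven_ne S hS) v, Finset.prod_eq_one fun S hS => by
          rw [mul_comm]; exact hεS S (Finset.mem_filter.1 hS).1 (hodd_ne S hS) v, one_mul]
  · refine (((hT χ).mul ((InR.prod (evens.erase ∅) fun S _ => hYS S).mul hGinv))).congr fun v => ?_
    by_cases hv : v = 1
    · exact Cong.of_eq (if_pos hv).symm
    · exact (hmain χ v hv).trans (Cong.of_eq (if_neg hv).symm)
  · show red M (if (1 : P) = 1 then _ else _) ≠ 0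
    rw [if_pos rfl, red_mul ((hT χ₀).memLocalRing 1)
      (((InR.prod (evens.erase ∅) fun S _ => hYS S).mul hGinv).memLocalRing 1),
      red_mul ((InR.prod (evens.erase ∅) fun S _ => hYS S).memLocalRing 1) (hGinv.memLocalRing 1)]
    refine mul_ne_zero hT1 (mul_ne_zero ?_ ?_)
    · rw [red_prod _ fun S _ => (hYS S).memLocalRing 1, Finset.prod_ne_zero_iff]
      exact fun S hS => hYS1 S (Finset.mem_filter.1 (Finset.mem_erase.1 hS).2).1 (heven_ne S hS)
    · have h := (red_eq_iff (MemLocalRing.mul (hoddR.memLocalRing 1) (hGinv.memLocalRing 1))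
        memLocalRing_one).2 ((hGc 1).memLocalIdeal hpM hD0)
      rw [red_mul (hoddR.memLocalRing 1) (hGinv.memLocalRing 1), red_one] at h
      exact right_ne_zero_of_mul_eq_one h

end Setup

end Cfsg.Agent.FreeInertia
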