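import Cfsg.Agent.Lib.FreeInertia.Stable
import Cfsg.Agent.Lib.Watanabe.Fourier
import Cfsg.Agent.Lib.Char.Linear

/-!
# Integral combinations orthogonal to the inertial quotient

`exists_gram`: `(|P| - 1) / e` integral vectors indexed by the characters of `B`, one for each orbit
of nontrivial characters of `P`, with Gram matrix `δ + e` and without a common zero.
-/

set_option autoImplicit false
set_option linter.unusedSectionVars false
set_option linter.style.haveILetI false

namespace Cfsg.Agent.FreeInertia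

open Cfsg Blocks MonoidAlgebra
open Cfsg.Agent.BrauerPairs (blkG stabOf conjEl IsBlockIdem)
open Cfsg.Agent.Blocks.NilRank (Cong IsTraceFun IsTw eU blkSet blkSet_spec blkSet_blk sectF secPairs
  mem_secPairs isBlockIdem_eU)
open Cfsg.Agent.Watanabe (orb mem_orb self_mem_orb orb_eq_of_mem)
open scoped Classical ComplexConjugate

universe u

variable {G : Type u} [Group G] [Fintype G] {M : Ideal AlgInt} [M.IsMaximal] {p : ℕ}
  [hp : Fact p.Prime] [CharP (AlgInt ⧸ M) p] {B : Set (IrrCharacter G)} {P : Subgroup G}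
  {e : MonoidAlgebra (AlgInt ⧸ M) G}

theorem sectF_conj_blkSet (g u : G) (f : MonoidAlgebra (AlgInt ⧸ M) G)
    (hf : IsBlockIdem (Subgroup.centralizer ({u} : Set G)) f) (χ ψ : IrrCharacter G) :
    sectF p (Subgroup.centralizer ({g * u * g⁻¹} : Set G)) (g * u * g⁻¹)
        (blkSet M (Subgroup.centralizer ({g * u * g⁻¹} : Set G)) (conjEl g f)) χ.1 ψ.1 =
      sectF p (Subgroup.centralizer ({u} : Set G)) u
        (blkSet M (Subgroup.centralizer ({u} : Set G)) f) χ.1 ψ.1 := by
  have hH : ∀ c, c ∈ Subgroup.centralizer ({g * u * g⁻¹} : Set G) ↔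
      g⁻¹ * c * g ∈ Subgroup.centralizer ({u} : Set G) := fun c => by
    simp only [Subgroup.mem_centralizer_singleton_iff]
    constructor
    · intro h
      have := congrArg (fun y => g⁻¹ * y * g) h
      simpa [mul_assoc] using this
    · intro h
      have := congrArg (fun y => g * y * g⁻¹) h
      simpa [mul_assoc] using this
  obtain ⟨h1, h2⟩ := blkSet_spec hf
  conv_lhs => arg 4; rw [← h2, ← BrauerPairs.blk_mapBlock_conjIso g hH,
    blkSet_blk (BrauerPairs.isPBlock_mapBlock _ h1)]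
  exact NilRank.sectF_conj g hH _ χ ψ

theorem sum_units_hom {Q : Type u} [Group Q] [Fintype Q] (φ : Q →* ℂˣ) :
    ∑ v, (φ v : ℂ) = if φ = 1 then (Nat.card Q : ℂ) else 0 := by
  split_ifs with h
  · subst h
    simp
  · obtain ⟨a, ha⟩ : ∃ a, φ a ≠ 1 := by
      by_contra hcon
      push Not at hcon
      exact h (MonoidHom.ext hcon)
    have h1 : (φ a : ℂ) * ∑ v, (φ v : ℂ) = ∑ v, (φ v : ℂ) := by
      rw [Finset.mul_sum]
      exact Fintype.sum_equiv (Equiv.mulLeft a) _ _ fun v => by simp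
    have hne : (φ a : ℂ) ≠ 1 := fun h2 => ha (Units.ext h2)
    have h2 : ((φ a : ℂ) - 1) * ∑ v, (φ v : ℂ) = 0 := by rw [sub_mul, h1, one_mul, sub_self]
    exact (mul_eq_zero.1 h2).resolve_left (sub_ne_zero.2 hne)

theorem conj_units_hom {Q : Type u} [Group Q] [Finite Q] (φ : Q →* ℂˣ) (v : Q) :
    conj (φ v : ℂ) = ((φ v)⁻¹ : ℂˣ) := by
  have h := Char.normSq_linear ((Units.coeHom ℂ).comp φ) v
  rw [MonoidHom.comp_apply, Units.coeHom_apply] at h
  rw [Units.val_inv_eq_inv_val]
  exact eq_inv_of_mul_eq_one_right h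

namespace Setup

variable (s : Setup p B P e)
include s

theorem blockRank_eq_one {v : G} (hv : v ∈ P) (hv1 : v ≠ 1) :
    blockRank p (blkSet M (Subgroup.centralizer ({v} : Set G)) (eU p P e v)) = 1 := by
  have key : ∀ {H : Subgroup G}, H = Subgroup.centralizer ({v} : Set G) →
      ∀ {f : MonoidAlgebra (AlgInt ⧸ M) G}, f = eU p P e v → ∀ {ν : H → ℂ} {d : IrrCharacter H → ℕ}
        {q : ℕ}, IsRef p (blkSet M H f) ν d q →
        blockRank p (blkSet M (Subgroup.centralizer ({v} : Set G)) (eU p P e v)) = 1 := by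
    intro H hH f hf ν d q h
    subst hH hf
    exact h.rank
  exact key Blocks.centralizer_zpowers_eq (fR_zpowers s.pair hv)
    (s.isRef (Subgroup.zpowers_le.2 hv) (s.zpowers_ne_bot hv1))

/-- Orthogonality of the rows in terms of the sections at the elements of `P`. -/
theorem sum_sectF {χ : IrrCharacter G} (hχ : χ ∈ B) (ψ : IrrCharacter G) :
    ∑ x : P, sectF p (Subgroup.centralizer ({(x : G)} : Set G)) x
        (blkSet M (Subgroup.centralizer ({(x : G)} : Set G)) (eU p P e x)) χ.1 ψ.1 /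
        (orb (stabOf P e) (x : G)).card = if χ = ψ then 1 else 0 := by
  let Φ : G → MonoidAlgebra (AlgInt ⧸ M) G → ℂ := fun u f =>
    if IsBlockIdem (Subgroup.centralizer ({u} : Set G)) f then
      sectF p (Subgroup.centralizer ({u} : Set G)) u
        (blkSet M (Subgroup.centralizer ({u} : Set G)) f) χ.1 ψ.1
    else 0
  have hmapC : ∀ g u : G, (Subgroup.centralizer ({u} : Set G)).map (MulAut.conj g).toMonoidHom =
      Subgroup.centralizer ({g * u * g⁻¹} : Set G) := fun g u => by
    rw [← centralizer_zpowers_eq, BrauerPairs.map_conj_centralizer, NilRank.map_conj_zpowers,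
      centralizer_zpowers_eq]
  have hΦ : ∀ g u f, Φ (g * u * g⁻¹) (conjEl g f) = Φ u f := by
    intro g u f
    simp only [Φ]
    by_cases hf : IsBlockIdem (Subgroup.centralizer ({u} : Set G)) f
    · have hf' := hf.conj g
      rw [hmapC] at hf'
      rw [if_pos hf, if_pos hf', sectF_conj_blkSet g u f hf χ ψ]
    · rw [if_neg hf, if_neg]
      intro hf'
      have h := hf'.conj g⁻¹
      rw [hmapC, BrauerPairs.conjEl_inv_conjEl, show g⁻¹ * (g * u * g⁻¹) * g⁻¹⁻¹ = u by group] at h
      exact hf h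
  have hsum := Watanabe.sum_secPairs_eq s.hpM s.block s.isMax s.comm Φ hΦ
  have h := NilRank.classInner_eq_sum_secPairs (p := p) s.hpM s.block hχ ψ
  have hleft : ∀ q ∈ secPairs M p B, Φ q.1 q.2 =
      sectF p (Subgroup.centralizer ({q.1} : Set G)) q.1
        (blkSet M (Subgroup.centralizer ({q.1} : Set G)) q.2) χ.1 ψ.1 := by
    intro q hq
    have hpr := ((mem_secPairs s.hpM s.block q).1 hq).2
    exact if_pos (centralizer_zpowers_eq (x := q.1) ▸ hpr.1.2)
  rw [Finset.sum_congr rfl fun q hq => by rw [hleft q hq], ← h] at hsum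
  refine mul_left_cancel₀ (Nat.cast_ne_zero.2 (Nat.card_pos (α := G)).ne' : (Nat.card G : ℂ) ≠ 0) ?_
  rw [← Char.classInner_irr χ ψ, hsum]
  congr 1
  exact Finset.sum_congr rfl fun x _ => by
    simp only [Φ, if_pos (isBlockIdem_eU s.pair x.2)]

/-- Orthogonality of the columns. -/
theorem sum_conj_mul {F : IrrCharacter G → P → ℂ}
    (hsect : ∀ χ ψ, ∀ v : P, v ≠ 1 → F χ v * conj (F ψ v) = (Nat.card P : ℂ) *
      sectF p (Subgroup.centralizer ({(v : G)} : Set G)) v
        (blkSet M (Subgroup.centralizer ({(v : G)} : Set G)) (eU p P e v)) χ.1 ψ.1)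
    (hst : ∀ χ, ∀ σ ∈ autE P e, ∀ v, v ≠ 1 → F χ (σ v) = F χ v)
    {u v : P} (hu : u ≠ 1) (hv : v ≠ 1) :
    ∑ χ ∈ Finset.univ.filter (· ∈ B), conj (F χ u) * F χ v =
      if ∃ σ ∈ autE P e, σ u = v then (Nat.card P : ℂ) else 0 := by
  have hpM := s.hpM
  set q : ℂ := (Nat.card P : ℂ) with hq
  have hq0 : q ≠ 0 := Nat.cast_ne_zero.2 Nat.card_pos.ne'
  let T : Finset (IrrCharacter G) := Finset.univ.filter (· ∈ B)
  have hN : ∑ χ ∈ T, F χ u * conj (F χ u) = q := by
    rw [Finset.sum_congr rfl fun χ _ => hsect χ χ u hu, ← Finset.mul_sum]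
    have h := Watanabe.sum_ctb_block hpM s.block s.isMax u.2
    rw [s.blockRank_eq_one u.2 fun h1 => hu (Subtype.ext h1), Nat.cast_one] at h
    simp only [Watanabe.ctb] at h
    rw [h, mul_one]
  let S : P → ℂ := fun x => ∑ χ ∈ T, conj (F χ u) * F χ x
  let sF : IrrCharacter G → IrrCharacter G → P → ℂ := fun χ ψ x =>
    sectF p (Subgroup.centralizer ({(x : G)} : Set G)) x
      (blkSet M (Subgroup.centralizer ({(x : G)} : Set G)) (eU p P e x)) χ.1 ψ.1
  let Q : P → ℂ := fun x => ∑ χ ∈ T, ∑ ψ ∈ T, conj (F χ u) * conj (conj (F ψ u)) * sF χ ψ x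
  have hQS : ∀ x, x ≠ 1 → q * Q x = S x * conj (S x) := by
    intro x hx
    simp only [Q, S, map_sum]
    rw [Finset.sum_mul_sum]
    simp only [Finset.mul_sum]
    refine Finset.sum_congr rfl fun χ _ => Finset.sum_congr rfl fun ψ _ => ?_
    rw [map_mul]
    linear_combination (-(conj (F χ u) * conj (conj (F ψ u)))) * hsect χ ψ x hx
  have hQnn : ∀ x : P, ∃ r : ℝ, 0 ≤ r ∧ Q x = r := by
    intro x
    have hxC : (x : G) ∈ Subgroup.centralizer ({(x : G)} : Set G) :=
      Subgroup.mem_centralizer_singleton_iff.2 rfl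
    obtain ⟨r, hr, h⟩ := secH_quad_nonneg (p := p) hpM (blkSet_spec (isBlockIdem_eU s.pair x.2)).1
      (z := (⟨x, hxC⟩ : Subgroup.centralizer ({(x : G)} : Set G)))
      (fun y => Subtype.ext (Subgroup.mem_centralizer_singleton_iff.1 y.2).symm) T
      (fun χ y => χ.1 y) (fun χ _ => Char.IsCharacter.restrict (Char.irr_isCharacter χ) _)
      (fun χ => conj (F χ u))
    refine ⟨r, hr, ?_⟩
    rw [← h]
    simp only [Q, sF]
    exact Finset.sum_congr rfl fun χ _ => Finset.sum_congr rfl fun ψ _ => by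
      rw [sectF_eq_secH _ hxC]
  choose r hr0 hr using hQnn
  have htot : ∑ x, Q x / (orb (stabOf P e) (x : G)).card = q := by
    simp only [Q, Finset.sum_div, mul_div_assoc]
    rw [Finset.sum_comm]
    rw [← hN]
    refine Finset.sum_congr rfl fun χ hχ => ?_
    rw [Finset.sum_comm, Finset.sum_congr rfl fun ψ _ => (Finset.mul_sum _ _ _).symm,
      Finset.sum_eq_single χ]
    · simp only [sF]
      rw [s.sum_sectF (Finset.mem_filter.1 hχ).2, if_pos rfl, Complex.conj_conj]
      ring
    · intro ψ _ hne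
      simp only [sF]
      rw [s.sum_sectF (Finset.mem_filter.1 hχ).2, if_neg (Ne.symm hne), mul_zero]
    · exact fun h => absurd hχ h
  let O : Finset P := Finset.univ.filter fun x => (x : G) ∈ orb (stabOf P e) (u : G)
  have hOσ : ∀ x ∈ O, ∃ σ ∈ autE P e, σ u = x := by
    intro x hx
    obtain ⟨t, ht, htx⟩ := mem_orb.1 (Finset.mem_filter.1 hx).2
    obtain ⟨σ, hσ, h⟩ := exists_autE ht
    exact ⟨σ, hσ, Subtype.ext ((h u).trans htx)⟩
  have hSO : ∀ x ∈ O, S x = q := by
    intro x hx
    obtain ⟨σ, hσ, rfl⟩ := hOσ x hx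
    rw [← hN]
    exact Finset.sum_congr rfl fun χ _ => by rw [hst χ σ hσ u hu, mul_comm]
  have hO1 : ∀ x ∈ O, x ≠ 1 := by
    intro x hx h1
    obtain ⟨σ, -, rfl⟩ := hOσ x hx
    exact hu (σ.injective (by rw [h1, map_one]))
  have hQO : ∀ x ∈ O, Q x = q := by
    intro x hx
    refine mul_left_cancel₀ hq0 ?_
    rw [hQS x (hO1 x hx), hSO x hx, hq, Complex.conj_natCast]
  have hcardO : O.card = (orb (stabOf P e) (u : G)).card := by
    refine Finset.card_bij (fun x _ => (x : G)) (fun x hx => (Finset.mem_filter.1 hx).2)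
      (fun x _ y _ h => Subtype.ext h) fun y hy => ?_
    obtain ⟨t, ht, rfl⟩ := mem_orb.1 hy
    exact ⟨⟨_, (Subgroup.mem_normalizer_iff.1 ht.1 (u : G)).1 u.2⟩,
      Finset.mem_filter.2 ⟨Finset.mem_univ _, hy⟩, rfl⟩
  have hrest : ∀ x, x ∉ O → Q x = 0 := by
    let a : P → ℝ := fun x => r x / (orb (stabOf P e) (x : G)).card
    have ha : ∀ x, 0 ≤ a x := fun x => div_nonneg (hr0 x) (Nat.cast_nonneg _)
    have h1 : ∑ x, a x = (Nat.card P : ℝ) := by
      have h := htot
      rw [Finset.sum_congr rfl fun x _ => show Q x / _ = (a x : ℂ) by rw [hr x]; simp [a]] at h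
      rw [hq] at h
      exact_mod_cast h
    have h2 : ∑ x ∈ O, a x = (Nat.card P : ℝ) := by
      have h : ∀ x ∈ O, a x = (Nat.card P : ℝ) / (O.card : ℝ) := fun x hx => by
        have hx' := hQO x hx
        rw [hr x, hq] at hx'
        simp only [a]
        rw [show r x = (Nat.card P : ℝ) by exact_mod_cast hx', hcardO,
          orb_eq_of_mem (Finset.mem_filter.1 hx).2]
      rw [Finset.sum_congr rfl h, Finset.sum_const, nsmul_eq_mul, mul_div_cancel₀]
      rw [hcardO]
      exact Nat.cast_ne_zero.2 (Finset.card_pos.2 ⟨_, self_mem_orb _ _⟩).ne'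
    rw [← Finset.sum_add_sum_compl O, h2] at h1
    have h3 : ∑ x ∈ Oᶜ, a x = 0 := by linarith
    intro x hx
    have h4 := (Finset.sum_eq_zero_iff_of_nonneg fun y _ => ha y).1 h3 x (Finset.mem_compl.2 hx)
    have h5 : r x = 0 := (div_eq_zero_iff.1 h4).resolve_right
      (Nat.cast_ne_zero.2 (Finset.card_pos.2 ⟨_, self_mem_orb _ _⟩).ne')
    rw [hr x, h5, Complex.ofReal_zero]
  by_cases h : ∃ σ ∈ autE P e, σ u = v
  · rw [if_pos h]
    obtain ⟨σ, hσ, rfl⟩ := h
    rw [← hN]
    exact Finset.sum_congr rfl fun χ _ => by rw [hst χ σ hσ u hu, mul_comm]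
  · rw [if_neg h]
    have hvO : v ∉ O := fun hv' => h (hOσ v hv')
    have h1 := hQS v hv
    rw [hrest v hvO, mul_zero, Complex.mul_conj] at h1
    exact Complex.normSq_eq_zero.1 (by exact_mod_cast h1.symm)

/-- The integral vectors. -/
theorem exists_gram {D : ℕ} (hD : Nat.card P = p ^ D) (hD0 : D ≠ 0) :
    ∃ (r : ℕ) (a : IrrCharacter G → Fin r → ℤ), Nat.card P = 1 + Nat.card (autE P e) * r ∧
      (∀ i j, ∑ χ ∈ Finset.univ.filter (· ∈ B), a χ i * a χ j =
        (if i = j then 1 else 0) + (Nat.card (autE P e) : ℤ)) ∧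
      ∀ χ ∈ B, ∃ i, a χ i ≠ 0 := by
  obtain ⟨F, hFtw, hFpow, hFR, hFsect, hFst⟩ := s.exists_stable hD hD0
  letI : CommGroup P := { (inferInstance : Group P) with
    mul_comm := fun x y => Subtype.ext (Subgroup.mem_centralizer_iff.1 (s.comm y.2) x x.2) }
  haveI : HasEnoughRootsOfUnity ℂ (Monoid.exponent P) := by
    haveI : NeZero (Monoid.exponent P) := ⟨Monoid.ExponentExists.of_finite.exponent_ne_zero⟩
    haveI : NeZero ((Monoid.exponent P : ℕ) : ℂ) := ⟨Nat.cast_ne_zero.2 (NeZero.ne _)⟩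
    infer_instance
  obtain ⟨em⟩ := CommGroup.monoidHom_mulEquiv_of_hasEnoughRootsOfUnity P ℂ
  haveI : Fintype (P →* ℂˣ) := Fintype.ofEquiv P em.symm.toEquiv
  haveI : Fintype (autE P e) := Fintype.ofFinite _
  set q : ℂ := (Nat.card P : ℂ) with hq
  have hq0 : q ≠ 0 := Nat.cast_ne_zero.2 Nat.card_pos.ne'
  let T : Finset (IrrCharacter G) := Finset.univ.filter (· ∈ B)
  let n : (P →* ℂˣ) → IrrCharacter G → ℂ := fun l χ =>
    ∑ v : P, ((l v : ℂ) - 1) * F χ v 1
  -- integrality
  have hint : ∀ l χ, ∃ z : ℤ, n l χ = q * z := by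
    intro l χ
    have hroot : ∀ v : P, (l v : ℂ) ^ (p ^ D * p) = 1 := fun v => by
      rw [← Units.val_pow_eq_pow_val, ← map_pow,
        show v ^ (p ^ D * p) = 1 from Subtype.ext (by simpa using s.pow_card_p v.2 hD), map_one,
        Units.val_one]
    obtain ⟨z, hz⟩ := IsTw.exists_int (k := D) hp.out
      (f := fun t => ∑ v : P, ((l v : ℂ) ^ t - 1) * F χ v t)
      (IsTw.sum fun v => IsTw.mul
        (isTw_sub (IsTw.of_fintype (fun _ : Unit => 1) (fun _ => (l v : ℂ)) (fun _ => hroot v)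
          fun t => by simp) (by simpa using IsTw.intCast (N := p ^ D * p) 1)) (hFtw χ v))
      fun t ht => by
        show ∑ v : P, ((l v : ℂ) ^ t - 1) * F χ v t = ∑ v : P, ((l v : ℂ) ^ 1 - 1) * F χ v 1
        rw [← sum_pow s.isPGroup ht fun v : P => ((l v : ℂ) ^ 1 - 1) * F χ v 1]
        refine Finset.sum_congr rfl fun v _ => ?_
        rw [map_pow, Units.val_pow_eq_pow_val, pow_one, hFpow χ v t ht]
    obtain ⟨g, hgR, hg⟩ := hFR χ
    have hlR : InR M p D fun v : P => (l v : ℂ) :=
      InR.of_trace (IsTraceFun.of_character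
        (Char.IsIrrCharacter.isCharacter (Char.isIrrCharacter_of_monoidHom ((Units.coeHom ℂ).comp l))))
    have hsum : n l χ = ∑ v, (l v : ℂ) * g v - ∑ v, g v := by
      rw [← Finset.sum_sub_distrib]
      refine Finset.sum_congr rfl fun v _ => ?_
      by_cases hv : v = 1
      · subst hv; simp
      · rw [hg v hv]; ring
    have hmem : MemLocalRing M ((z : ℂ) / ((p ^ D : ℕ) : ℂ)) := by
      rw [show (z : ℂ) = n l χ by rw [← hz]; simp [n], hsum, ← hD, sub_div]
      exact MemLocalRing.sub ((hlR.mul hgR).memLocalRing_sum_div hD) (hgR.memLocalRing_sum_div hD)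
    rw [Char.memLocalRing_intCast_div_iff s.hpM z (pow_ne_zero _ hp.out.ne_zero),
      hp.out.factorization_pow, Finsupp.single_eq_same] at hmem
    obtain ⟨w, hw⟩ := hmem
    refine ⟨w, ?_⟩
    rw [show n l χ = (z : ℂ) by rw [← hz]; simp [n], hw, hq, hD]
    push_cast
    ring
  choose A hA using hint
  -- reindexing
  have hσ1 : ∀ (σ : MulAut P) {v : P}, v ≠ 1 → σ v ≠ 1 := fun σ v hv h =>
    hv (σ.injective (by rw [h, map_one]))
  have hstab : ∀ (σ : autE P e) l χ, n (l.comp (σ : MulAut P).toMonoidHom) χ = n l χ := by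
    intro σ l χ
    refine Fintype.sum_equiv (σ : MulAut P).toEquiv _ _ fun v => ?_
    show ((l ((σ : MulAut P) v) : ℂ) - 1) * F χ v 1 =
      ((l ((σ : MulAut P) v) : ℂ) - 1) * F χ ((σ : MulAut P) v) 1
    by_cases hv : v = 1
    · simp [hv]
    · rw [hFst χ _ σ.2 v hv]
  have hprod : ∀ (l l' : P →* ℂˣ), l ≠ 1 → l' ≠ 1 → ∑ χ ∈ T, n l χ * conj (n l' χ) =
      q * q * ∑ σ : autE P e, ((if l'.comp (σ : MulAut P).toMonoidHom = l then 1 else 0) + 1) := by
    intro l l' hl hl'
    have hcol : ∀ u : P, ∑ v : P, conj ((l' v : ℂ) - 1) *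
        ((l u : ℂ) - 1) * ∑ χ ∈ T, conj (F χ v 1) * F χ u 1 =
        q * ∑ σ : autE P e, ((l u : ℂ) - 1) * conj ((l' ((σ : MulAut P) u) : ℂ) - 1) := by
      intro u
      by_cases hu : u = 1
      · simp [hu]
      have hval : ∀ v : P, conj ((l' v : ℂ) - 1) * ((l u : ℂ) - 1) *
          ∑ χ ∈ T, conj (F χ v 1) * F χ u 1 =
          if v ∈ Finset.univ.image (fun σ : autE P e => (σ : MulAut P) u) then
            q * (((l u : ℂ) - 1) * conj ((l' v : ℂ) - 1)) else 0 := by
        intro v
        by_cases hv : v = 1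
        · subst hv
          simp
        rw [s.sum_conj_mul (F := fun χ v => F χ v 1) hFsect hFst hv hu]
        have hiff : (∃ σ ∈ autE P e, σ v = u) ↔
            v ∈ Finset.univ.image (fun σ : autE P e => (σ : MulAut P) u) := by
          simp only [Finset.mem_image, Finset.mem_univ, true_and]
          constructor
          · rintro ⟨σ, hσ, rfl⟩
            exact ⟨⟨σ⁻¹, inv_mem hσ⟩, σ.symm_apply_apply v⟩
          · rintro ⟨σ, rfl⟩
            exact ⟨(σ : MulAut P)⁻¹, inv_mem σ.2, (σ : MulAut P).symm_apply_apply u⟩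
        simp only [hiff]
        split_ifs <;> ring
      rw [Finset.sum_congr rfl fun v _ => hval v, Finset.sum_ite_mem, Finset.univ_inter,
        Finset.sum_image, Finset.mul_sum]
      intro σ _ τ _ h
      have h1 : ((τ : MulAut P)⁻¹ * (σ : MulAut P)) u = u := by
        rw [MulAut.mul_apply, show (σ : MulAut P) u = (τ : MulAut P) u from h]
        exact (τ : MulAut P).symm_apply_apply u
      exact Subtype.ext (inv_mul_eq_one.1
        (s.autE_free (mul_mem (inv_mem τ.2) σ.2) hu h1)).symm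
    have horth : ∀ σ : autE P e, ∑ u : P, ((l u : ℂ) - 1) * conj ((l' ((σ : MulAut P) u) : ℂ) - 1) =
        q * ((if l'.comp (σ : MulAut P).toMonoidHom = l then 1 else 0) + 1) := by
      intro σ
      set m := l'.comp (σ : MulAut P).toMonoidHom with hm
      have hm1 : m ≠ 1 := fun h => hl' (MonoidHom.ext fun y => by
        have := DFunLike.congr_fun h ((σ : MulAut P).symm y)
        simpa [hm] using this)
      have h1 : ∀ u, ((l u : ℂ) - 1) * conj ((m u : ℂ) - 1) =
          ((l * m⁻¹) u : ℂ) - (l u : ℂ) - (m⁻¹ u : ℂ) + 1 := fun u => by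
        rw [map_sub, map_one, conj_units_hom, MonoidHom.mul_apply, Units.val_mul, MonoidHom.inv_apply]
        ring
      show ∑ u : P, ((l u : ℂ) - 1) * conj ((m u : ℂ) - 1) = _
      rw [Finset.sum_congr rfl fun u _ => h1 u, Finset.sum_add_distrib, Finset.sum_sub_distrib,
        Finset.sum_sub_distrib, sum_units_hom, sum_units_hom, sum_units_hom, if_neg hl,
        if_neg (show m⁻¹ ≠ 1 from fun h => hm1 (MonoidHom.ext fun y => by simpa using DFunLike.congr_fun h y)), Finset.sum_const, Finset.card_univ, ← Nat.card_eq_fintype_card]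
      have hiff : l * m⁻¹ = 1 ↔ m = l := by
        constructor
        · intro h
          refine MonoidHom.ext fun y => ?_
          have h2 := DFunLike.congr_fun h y
          simp only [MonoidHom.mul_apply, MonoidHom.inv_apply, MonoidHom.one_apply] at h2
          exact (mul_inv_eq_one.1 h2).symm
        · rintro rfl
          ext; simp
      simp only [hiff]
      split_ifs <;> simp [hq] <;> ring
    calc ∑ χ ∈ T, n l χ * conj (n l' χ)
        = ∑ u : P, ∑ v : P, conj ((l' v : ℂ) - 1) * ((l u : ℂ) - 1) *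
            ∑ χ ∈ T, conj (F χ v 1) * F χ u 1 := by
          simp only [n, map_sum, map_mul]
          rw [Finset.sum_congr rfl fun χ _ => Finset.sum_mul_sum _ _ _ _]
          simp only [Finset.mul_sum]
          rw [Finset.sum_comm]
          refine Finset.sum_congr rfl fun u _ => ?_
          rw [Finset.sum_comm]
          exact Finset.sum_congr rfl fun v _ => Finset.sum_congr rfl fun χ _ => by ring
      _ = q * ∑ σ : autE P e, ∑ u : P,
            ((l u : ℂ) - 1) * conj ((l' ((σ : MulAut P) u) : ℂ) - 1) := by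
          rw [Finset.sum_congr rfl fun u _ => hcol u, ← Finset.mul_sum, Finset.sum_comm]
      _ = _ := by
          rw [Finset.sum_congr rfl fun σ _ => horth σ, ← Finset.mul_sum, mul_assoc]
  -- free action on characters
  obtain ⟨r, rep, hcard, hrep1, hrepinj, hrepsurj⟩ := exists_reps (A := autE P e) (X := P →* ℂˣ)
    (fun σ l => l.comp ((σ⁻¹ : autE P e) : MulAut P).toMonoidHom) (fun l => by ext; simp)
    (fun a b l => by ext; simp [MulAut.mul_apply]) 1 (fun _ => MonoidHom.one_comp _)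
    (fun σ l hl h => by
      by_contra hne
      refine hl (MonoidHom.ext fun y => ?_)
      set τ : MulAut P := ((σ⁻¹ : autE P e) : MulAut P) with hτ
      have hτ1 : τ ≠ 1 := fun h1 => hne (inv_eq_one.1 (Subtype.ext h1))
      have hinj : Function.Injective fun v : P => τ v * v⁻¹ := by
        intro v w hvw
        by_contra hne'
        refine hτ1 (s.autE_free (σ⁻¹ : autE P e).2 (x := v * w⁻¹)
          (fun h1 => hne' (mul_inv_eq_one.1 h1)) ?_)
        show τ (v * w⁻¹) = v * w⁻¹
        have h2 : τ v * v⁻¹ = τ w * w⁻¹ := hvw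
        rw [map_mul, map_inv]
        calc τ v * (τ w)⁻¹ = τ v * v⁻¹ * (v * (τ w)⁻¹) := by group
          _ = τ w * w⁻¹ * (v * (τ w)⁻¹) := by rw [h2]
          _ = v * w⁻¹ := by
            rw [mul_comm v (τ w)⁻¹, mul_comm (τ w) w⁻¹, mul_assoc, mul_inv_cancel_left, mul_comm]
      obtain ⟨v, rfl⟩ := (Finite.injective_iff_surjective.1 hinj) y
      have h3 : l (τ v) = l v := DFunLike.congr_fun h v
      show l (τ v * v⁻¹) = 1
      rw [map_mul, map_inv, h3, mul_inv_cancel])
  rw [Fintype.card_congr em.toEquiv, ← Nat.card_eq_fintype_card, ← Nat.card_eq_fintype_card] at hcard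
  refine ⟨r, fun χ i => A (rep i) χ, hcard, fun i j => ?_, fun χ hχ => ?_⟩
  · have h := hprod (rep i) (rep j) (hrep1 i) (hrep1 j)
    rw [Finset.sum_congr rfl fun χ _ => show n (rep i) χ * conj (n (rep j) χ) =
      q * q * ((A (rep i) χ * A (rep j) χ : ℤ) : ℂ) by
        rw [hA, hA, map_mul, hq, Complex.conj_natCast, map_intCast]; push_cast; ring,
      ← Finset.mul_sum] at h
    have hsig : ∀ σ : autE P e,
        (rep j).comp (σ : MulAut P).toMonoidHom = rep i ↔ σ = 1 ∧ i = j := by
      intro σ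
      constructor
      · intro hσ
        obtain ⟨h1, h2⟩ := hrepinj j i σ⁻¹ (by simpa using hσ)
        exact ⟨inv_eq_one.1 h2, h1.symm⟩
      · rintro ⟨rfl, rfl⟩
        ext; simp
    have h' := mul_left_cancel₀ (mul_ne_zero hq0 hq0) h
    rw [← Int.cast_sum] at h'
    simp only [hsig] at h'
    rw [Finset.sum_add_distrib, Finset.sum_const, Finset.card_univ, nsmul_eq_mul, mul_one,
      ← Nat.card_eq_fintype_card] at h'
    by_cases hij : i = j
    · simp only [hij, and_true, Finset.sum_ite_eq', Finset.mem_univ, if_pos] at h'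
      rw [if_pos hij, hij]
      exact_mod_cast h'
    · simp only [hij, and_false, if_false, Finset.sum_const_zero] at h'
      rw [if_neg hij]
      exact_mod_cast h'
  · by_contra hcon
    push Not at hcon
    have hzero : ∀ l : P →* ℂˣ, l ≠ 1 → n l χ = 0 := by
      intro l hl
      obtain ⟨i, σ, rfl⟩ := hrepsurj l hl
      show n ((rep i).comp ((σ⁻¹ : autE P e) : MulAut P).toMonoidHom) χ = 0
      rw [hstab, hA, hcon i, Int.cast_zero, mul_zero]
    let R : P → ℂ := fun v =>
      if v = 1 then -∑ w ∈ Finset.univ.erase 1, F χ w 1 else F χ v 1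
    have hR : ∑ v, R v = 0 := by
      rw [← Finset.add_sum_erase _ _ (Finset.mem_univ (1 : P)),
        Finset.sum_congr rfl fun v hv => show R v = F χ v 1 from if_neg (Finset.mem_erase.1 hv).1]
      simp [R]
    have horth : ∀ φ : P →* ℂˣ, φ ≠ 1 → ∑ v, (φ v : ℂ) * R v = 0 := by
      intro φ hφ
      have h1 : ∑ v, (φ v : ℂ) * R v - ∑ v, R v = n φ χ := by
        rw [← Finset.sum_sub_distrib]
        refine Finset.sum_congr rfl fun v _ => ?_
        by_cases hv : v = 1
        · simp [hv]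
        · simp only [R, if_neg hv]; ring
      rwa [hR, hzero φ hφ, sub_zero] at h1
    obtain ⟨v, hv⟩ : ∃ v : P, v ≠ 1 := by
      haveI : Nontrivial P := Finite.one_lt_card_iff_nontrivial.1 (by
        rw [hD]; exact Nat.one_lt_pow hD0 hp.out.one_lt)
      exact exists_ne 1
    have h0 := Watanabe.card_mul_eq_sum R horth v
    rw [hR] at h0
    have hFv : F χ v 1 = 0 := by
      have h1 := (mul_eq_zero.1 h0).resolve_left (Nat.cast_ne_zero.2 Fintype.card_pos.ne')
      simpa [R, hv] using h1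
    have h1 := hFsect χ χ v hv
    rw [hFv, zero_mul] at h1
    obtain ⟨ρ, hρ, hρe⟩ := Watanabe.ctb_pos s.hpM s.block s.isMax s.comm hχ v.2
    simp only [Watanabe.ctb] at hρe
    rw [hρe, eq_comm, mul_eq_zero] at h1
    exact hρ.ne' (by exact_mod_cast h1.resolve_left hq0)

end Setup

end Cfsg.Agent.FreeInertia
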