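import Cfsg.Agent.Lib.FreeInertia.Main
import Cfsg.Agent.Lib.Watanabe.Main
import Mathlib.Data.ZMod.Basic

/-!
# The inertial quotient of a homocyclic `2`-group of rank two
-/

set_option autoImplicit false
set_option linter.unusedSectionVars false
set_option linter.style.haveILetI false

namespace Cfsg.Agent.FreeInertia

open Cfsg Blocks
open Cfsg.Agent.BrauerPairs (blk blkG stabOf IsMax)
open scoped Classical

universe u

/-- A group isomorphic to `C_(2^m) × C_(2^m)` has at most three involutions. -/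
theorem card_involutions_le {D : Type u} [Group D] [Fintype D] {m : ℕ} (hm : 1 ≤ m)
    (φ : D ≃* Multiplicative (ZMod (2 ^ m) × ZMod (2 ^ m))) :
    (Finset.univ.filter fun y : D => y ^ 2 = 1 ∧ y ≠ 1).card ≤ 3 := by
  haveI : NeZero (2 ^ m) := ⟨pow_ne_zero _ two_ne_zero⟩
  set h : ZMod (2 ^ m) := ((2 ^ (m - 1) : ℕ) : ZMod (2 ^ m)) with hh
  have hval : ∀ x : ZMod (2 ^ m), x + x = 0 → x = 0 ∨ x = h := by
    intro x hx
    rcases (ZMod.neg_eq_self_iff x).1 (neg_eq_of_add_eq_zero_left hx) with h0 | h2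
    · exact Or.inl h0
    · refine Or.inr ?_
      obtain ⟨j, rfl⟩ : ∃ j, m = j + 1 := ⟨m - 1, by omega⟩
      rw [hh, Nat.add_sub_cancel, ← ZMod.natCast_zmod_val x]
      congr 1
      have := pow_succ 2 j
      omega
  let ψ : D → ZMod (2 ^ m) × ZMod (2 ^ m) := fun y => Multiplicative.toAdd (φ y)
  have hψ : Function.Injective ψ := fun a b hab => φ.injective (Multiplicative.toAdd.injective hab)
  refine le_trans (le_of_eq (Finset.card_image_of_injective _ hψ).symm)
    (le_trans (Finset.card_le_card (t := {(0, h), (h, 0), (h, h)}) ?_) Finset.card_le_three)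
  intro z hz
  obtain ⟨y, hy, rfl⟩ := Finset.mem_image.1 hz
  obtain ⟨hy2, hy1⟩ := (Finset.mem_filter.1 hy).2
  have h2 : ψ y + ψ y = 0 := by
    show Multiplicative.toAdd (φ y) + Multiplicative.toAdd (φ y) = 0
    rw [← toAdd_mul, ← map_mul, ← sq, hy2, map_one, toAdd_one]
  have hne : ψ y ≠ 0 := fun h0 => hy1 (hψ (by rw [h0]; simp [ψ]))
  obtain ⟨h21, h22⟩ := Prod.ext_iff.1 h2
  rcases hval _ h21 with a1 | a1 <;> rcases hval _ h22 with a2 | a2
  · exact absurd (Prod.ext a1 a2) hne
  all_goals simp [Prod.ext_iff, a1, a2]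

variable {D : Type u} [Group D]

/-- An automorphism of odd order of an abelian `2`-group fixing the involutions is trivial. -/
theorem eq_one_of_fix_involutions (hD : IsPGroup 2 D) (hcomm : ∀ a b : D, a * b = b * a)
    {σ : MulAut D} {n : ℕ} (hn : Odd n) (hσ : σ ^ n = 1) (hfix : ∀ y : D, y ^ 2 = 1 → σ y = y) :
    σ = 1 := by
  have key : ∀ j, ∀ y : D, y ^ 2 ^ j = 1 → σ y = y := by
    intro j
    induction j with
    | zero => intro y hy; rw [pow_zero, pow_one] at hy; rw [hy, map_one]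
    | succ j ih =>
      intro y hy
      have h2 : σ (y ^ 2) = y ^ 2 := ih _ (by rwa [← pow_mul, ← pow_succ'])
      set z := σ y * y⁻¹ with hz
      have hc : Commute (σ y) y⁻¹ := hcomm _ _
      have hz2 : z ^ 2 = 1 := by rw [hz, hc.mul_pow, ← map_pow, h2, inv_pow, mul_inv_cancel]
      have hzf := hfix z hz2
      have hiter : ∀ i, (σ ^ i) y = z ^ i * y := by
        intro i
        induction i with
        | zero => simp
        | succ i ihi =>
          rw [pow_succ', MulAut.mul_apply, ihi, map_mul, map_pow, hzf, pow_succ, mul_assoc, hz,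
            inv_mul_cancel_right]
      have h1 := hiter n
      rw [hσ, MulAut.one_apply, eq_comm, mul_eq_right] at h1
      obtain ⟨k, rfl⟩ := hn
      rw [pow_succ, pow_mul, hz2, one_pow, one_mul, hz, mul_inv_eq_one] at h1
      exact h1
  refine MulEquiv.ext fun y => ?_
  obtain ⟨j, hj⟩ := hD y
  exact key j y hj

theorem fix_involutions [Fintype D] (h3 : (Finset.univ.filter fun y : D => y ^ 2 = 1 ∧ y ≠ 1).card ≤ 3)
    {σ : MulAut D} {n : ℕ} (hn : Odd n) (hσ : σ ^ n = 1) {a : D} (ha : a ^ 2 = 1) (ha1 : a ≠ 1)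
    (hfix : σ a = a) : ∀ y : D, y ^ 2 = 1 → σ y = y := by
  intro y hy
  by_cases hy1 : y = 1
  · rw [hy1, map_one]
  by_cases hya : y = a
  · rw [hya, hfix]
  set S := (Finset.univ.filter fun y : D => y ^ 2 = 1 ∧ y ≠ 1).erase a with hS
  have hmem : ∀ z : D, z ∈ S ↔ z ≠ a ∧ z ^ 2 = 1 ∧ z ≠ 1 := fun z => by simp [hS]
  have hcard : S.card ≤ 2 := by
    rw [hS, Finset.card_erase_of_mem (by simp [ha, ha1])]
    omega
  have hmap : ∀ z ∈ S, σ z ∈ S := fun z hz => by
    obtain ⟨h1, h2, h3⟩ := (hmem z).1 hz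
    exact (hmem _).2 ⟨fun h => h1 (σ.injective (h.trans hfix.symm)), by rw [← map_pow, h2, map_one],
      fun h => h3 (σ.injective (h.trans (map_one σ).symm))⟩
  have hyS : y ∈ S := (hmem y).2 ⟨hya, hy, hy1⟩
  by_contra hne
  have h2' : σ (σ y) = y := by
    by_contra h
    have hsub : ({y, σ y, σ (σ y)} : Finset D) ⊆ S := by
      intro z hz
      simp only [Finset.mem_insert, Finset.mem_singleton] at hz
      rcases hz with rfl | rfl | rfl
      exacts [hyS, hmap _ hyS, hmap _ (hmap _ hyS)]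
    have h3' : ({y, σ y, σ (σ y)} : Finset D).card = 3 := by
      rw [Finset.card_insert_of_notMem, Finset.card_pair]
      · exact fun h' => hne (σ.injective h').symm
      · simp only [Finset.mem_insert, Finset.mem_singleton, not_or]
        exact ⟨Ne.symm hne, Ne.symm h⟩
    have := Finset.card_le_card hsub
    omega
  obtain ⟨k, rfl⟩ := hn
  have hk : ∀ i, (σ ^ (2 * i)) y = y := by
    intro i
    induction i with
    | zero => simp
    | succ i ihi =>
      rw [Nat.mul_succ, pow_add, MulAut.mul_apply, sq, MulAut.mul_apply, h2', ihi]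
  have h1 : (σ ^ (2 * k + 1)) y = y := by rw [hσ, MulAut.one_apply]
  rw [pow_succ', MulAut.mul_apply, hk k] at h1
  exact hne h1

section Block

variable {G : Type u} [Group G] [Fintype G] {M : Ideal AlgInt} [M.IsMaximal]
  [hp : Fact (Nat.Prime 2)] [CharP (AlgInt ⧸ M) 2] {B : Set (IrrCharacter G)} {P : Subgroup G}
  {e : MonoidAlgebra (AlgInt ⧸ M) G}

/-- The setup, with inertial index one or three. -/
theorem setup_homocyclic (hM : IsPModular 2 M) (hB : IsPBlock M B)
    (ha : IsMax 2 (blkG M B) (P, e)) {m : ℕ} (hm : 1 ≤ m)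
    (φ : P ≃* Multiplicative (ZMod (2 ^ m) × ZMod (2 ^ m))) :
    Setup 2 B P e ∧ (Nat.card (autE P e) = 1 ∨ Nat.card (autE P e) = 3) := by
  have hP : IsPGroup 2 P := ha.1.1.1
  have hcomm : ∀ a b : P, a * b = b * a := fun a b => φ.injective (by rw [map_mul, map_mul, mul_comm])
  have hPC : P ≤ Subgroup.centralizer (P : Set G) := fun x hx =>
    Subgroup.mem_centralizer_iff.2 fun y hy => congrArg Subtype.val (hcomm ⟨y, hy⟩ ⟨x, hx⟩)
  have hodd : Odd (Nat.card (autE P e)) := by
    rw [card_autE, Nat.odd_iff, ← Nat.two_dvd_ne_zero]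
    have h := Watanabe.not_dvd_relIndex_stabIn hB ha hPC (R := ⊥) bot_le
    rwa [Watanabe.stabIn, show Subgroup.centralizer ((⊥ : Subgroup G) : Set G) = ⊤ from
      eq_top_iff.2 fun g _ => Subgroup.mem_centralizer_iff.2 fun x hx => by
        rw [Subgroup.mem_bot.1 hx, one_mul, mul_one], inf_top_eq] at h
  have h3 := card_involutions_le hm φ
  haveI : Fintype (autE P e) := Fintype.ofFinite _
  have hord : ∀ σ ∈ autE P e, σ ^ Nat.card (autE P e) = 1 := fun σ hσ =>
    congrArg Subtype.val (pow_card_eq_one' (x := (⟨σ, hσ⟩ : autE P e)))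
  have hinv : ∀ x : P, x ≠ 1 → ∃ k : ℕ, (x ^ k) ^ 2 = 1 ∧ x ^ k ≠ 1 := by
    intro x hx
    obtain ⟨j, hj⟩ := IsPGroup.iff_orderOf.1 hP x
    obtain _ | j := j
    · exact absurd (orderOf_eq_one_iff.1 (by rw [hj, pow_zero])) hx
    refine ⟨2 ^ j, ?_, fun h => ?_⟩
    · rw [← pow_mul, ← pow_succ, ← hj, pow_orderOf_eq_one]
    · have := Nat.le_of_dvd (by positivity) (orderOf_dvd_of_pow_eq_one h)
      rw [hj, pow_succ] at this
      have h0 : 0 < 2 ^ j := by positivity
      omega
  have hfree' : ∀ σ ∈ autE P e, ∀ x : P, x ≠ 1 → σ x = x → σ = 1 := by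
    intro σ hσ x hx hfix
    obtain ⟨k, hk2, hk1⟩ := hinv x hx
    exact eq_one_of_fix_involutions hP hcomm hodd (hord σ hσ)
      (fix_involutions h3 hodd (hord σ hσ) hk2 hk1 (by rw [map_pow, hfix]))
  refine ⟨⟨hM, hB, ha, hPC, fun g hg x hx hx1 hfix => ?_⟩, ?_⟩
  · obtain ⟨σ, hσ, h⟩ := exists_autE hg
    have h1 := hfree' σ hσ ⟨x, hx⟩ (fun h0 => hx1 (congrArg Subtype.val h0))
      (Subtype.ext ((h _).trans hfix))
    refine Subgroup.mem_centralizer_iff.2 fun y hy => ?_
    have h2 : g * y * g⁻¹ = y := by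
      rw [← h ⟨y, hy⟩, h1]
      rfl
    exact (mul_inv_eq_iff_eq_mul.1 h2).symm
  · haveI : Nontrivial P := by
      haveI : Fact (1 < 2 ^ m) := ⟨Nat.one_lt_pow (by omega) one_lt_two⟩
      exact φ.toEquiv.nontrivial
    obtain ⟨x, hx⟩ := exists_ne (1 : P)
    obtain ⟨k, hk2, hk1⟩ := hinv x hx
    have hle : Nat.card (autE P e) ≤ 3 := by
      refine le_trans ?_ h3
      rw [Nat.card_eq_fintype_card, ← Finset.card_univ]
      refine Finset.card_le_card_of_injOn (fun σ : autE P e => (σ : MulAut P) (x ^ k))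
        (fun σ _ => ?_) fun σ _ τ _ h => ?_
      · simp only [Finset.coe_filter, Finset.mem_univ, true_and, Set.mem_setOf_eq, Finset.mem_filter]
        exact ⟨by rw [← map_pow, hk2, map_one],
          fun h0 => hk1 ((σ : MulAut P).injective (h0.trans (map_one _).symm))⟩
      · have h' : (σ : MulAut P) (x ^ k) = (τ : MulAut P) (x ^ k) := h
        have h1 : ((τ : MulAut P)⁻¹ * (σ : MulAut P)) (x ^ k) = x ^ k := by
          rw [MulAut.mul_apply, h']
          exact (τ : MulAut P).symm_apply_apply _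
        exact Subtype.ext (inv_mul_eq_one.1
          (hfree' _ (mul_mem (inv_mem τ.2) σ.2) _ hk1 h1)).symm
    obtain ⟨j, hj⟩ := hodd
    omega

end Block

end Cfsg.Agent.FreeInertia
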