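import Mathlib.Algebra.Order.BigOperators.Group.Finset
import Mathlib.Algebra.BigOperators.Ring.Finset
import Mathlib.Algebra.BigOperators.Fin
import Mathlib.Tactic.Linarith
import Mathlib.Tactic.Ring
import Mathlib.Tactic.IntervalCases
import Mathlib.Tactic.LinearCombination
import Mathlib.Algebra.Order.BigOperators.Ring.Finset
import Mathlib.Algebra.BigOperators.Intervals
import Mathlib.Algebra.Order.Ring.Abs

/-!
# Integral vectors with Gram matrix `δ + e`

`card_le`: they involve at most `e + r` coordinates.  `le_card`: for `e ≤ 3` and more than `r`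
coordinates they involve at least as many, apart from small exceptions.
-/

set_option autoImplicit false

namespace Cfsg.Agent.FreeInertia.Lattice

open scoped Classical

universe u

variable {ι : Type u} {T : Finset ι} {r e : ℕ} {a : ι → Fin r → ℤ}

theorem sq_steps_ge {n : ℕ} (b : ℕ → ℤ) (h0 : b 0 = 0) (hn : b n = 0) {m : ℕ} (hm : m ≤ n)
    (hb : b m ≠ 0) : 2 ≤ ∑ i ∈ Finset.range n, (b (i + 1) - b i) ^ 2 := by
  have habs : ∀ x : ℤ, |x| ≤ x ^ 2 := fun x => by
    rw [← sq_abs]
    nlinarith [abs_nonneg x, sq_nonneg (|x| - 1)]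
  have h1 : |b m| ≤ ∑ i ∈ Finset.range m, |b (i + 1) - b i| := by
    refine le_trans ?_ (Finset.abs_sum_le_sum_abs _ _)
    rw [Finset.sum_range_sub, h0, sub_zero]
  have h2 : |b m| ≤ ∑ i ∈ Finset.Ico m n, |b (i + 1) - b i| := by
    refine le_trans ?_ (Finset.abs_sum_le_sum_abs _ _)
    rw [Finset.sum_Ico_sub _ hm, hn, zero_sub, abs_neg]
  have h3 : 1 ≤ |b m| := Int.one_le_abs hb
  have h4 := Finset.sum_range_add_sum_Ico (fun i => |b (i + 1) - b i|) hm
  have h5 : ∑ i ∈ Finset.range n, |b (i + 1) - b i| ≤ ∑ i ∈ Finset.range n, (b (i + 1) - b i) ^ 2 :=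
    Finset.sum_le_sum fun i _ => habs _
  linarith

theorem card_le (hr : r ≠ 0)
    (hgram : ∀ i j, ∑ x ∈ T, a x i * a x j = (if i = j then 1 else 0) + (e : ℤ))
    (hne : ∀ x ∈ T, ∃ i, a x i ≠ 0) : T.card ≤ e + r := by
  obtain ⟨s, rfl⟩ := Nat.exists_eq_succ_of_ne_zero hr
  let b : ι → ℕ → ℤ := fun x i => if h : 1 ≤ i ∧ i ≤ s + 1 then a x ⟨i - 1, by omega⟩ else 0
  have hsum : ∑ i ∈ Finset.range (s + 2), ∑ x ∈ T, (b x (i + 1) - b x i) ^ 2 =
      2 * ((e : ℤ) + 1) + 2 * s := by
    rw [Finset.sum_range_succ, Finset.sum_range_succ']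
    have hz : ∀ x, b x 0 = 0 := fun x => dif_neg (by omega)
    have hl : ∀ x, b x (s + 1 + 1) = 0 := fun x => dif_neg (by omega)
    have hv : ∀ x i (hi : i ≤ s), b x (i + 1) = a x ⟨i, by omega⟩ := fun x i hi => by
      simp only [b]
      rw [dif_pos (by omega)]
      congr
    have hmid : ∀ i ∈ Finset.range s, ∑ x ∈ T, (b x (i + 1 + 1) - b x (i + 1)) ^ 2 = 2 := by
      intro i hi
      have hi' := Finset.mem_range.1 hi
      rw [Finset.sum_congr rfl fun x _ => show (b x (i + 1 + 1) - b x (i + 1)) ^ 2 =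
        a x ⟨i + 1, by omega⟩ * a x ⟨i + 1, by omega⟩ + a x ⟨i, by omega⟩ * a x ⟨i, by omega⟩ -
          2 * (a x ⟨i + 1, by omega⟩ * a x ⟨i, by omega⟩) by
        rw [hv x (i + 1) (by omega), hv x i (by omega)]; ring, Finset.sum_sub_distrib,
        Finset.sum_add_distrib, ← Finset.mul_sum, hgram, hgram, hgram, if_pos rfl, if_pos rfl,
        if_neg (by simp [Fin.ext_iff])]
      ring
    have hfirst : ∑ x ∈ T, (b x (0 + 1) - b x 0) ^ 2 = (e : ℤ) + 1 := by
      rw [show (e : ℤ) + 1 = ∑ x ∈ T, a x ⟨0, by omega⟩ * a x ⟨0, by omega⟩ by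
        rw [hgram, if_pos rfl]; ring]
      exact Finset.sum_congr rfl fun x _ => by rw [hz, hv x 0 (by omega)]; ring
    have hlast : ∑ x ∈ T, (b x (s + 1 + 1) - b x (s + 1)) ^ 2 = (e : ℤ) + 1 := by
      rw [show (e : ℤ) + 1 = ∑ x ∈ T, a x ⟨s, by omega⟩ * a x ⟨s, by omega⟩ by
        rw [hgram, if_pos rfl]; ring]
      exact Finset.sum_congr rfl fun x _ => by rw [hl, hv x s le_rfl]; ring
    rw [Finset.sum_congr rfl hmid, Finset.sum_const, Finset.card_range, nsmul_eq_mul, hfirst, hlast]
    ring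
  have h2 : ∀ x ∈ T, 2 ≤ ∑ i ∈ Finset.range (s + 2), (b x (i + 1) - b x i) ^ 2 := by
    intro x hx
    obtain ⟨i, hi⟩ := hne x hx
    refine sq_steps_ge _ (dif_neg (by omega)) (dif_neg (by omega)) (m := i.1 + 1) (by omega) ?_
    simp only [b]
    rw [dif_pos ⟨by omega, i.2⟩]
    exact hi
  have h3 := Finset.card_nsmul_le_sum T _ 2 h2
  rw [Finset.sum_comm, hsum, nsmul_eq_mul] at h3
  omega

/-- The equality case. -/
theorem le_card (hr : r ≠ 0) (he : 1 ≤ e) (he3 : e ≤ 3)
    (hgram : ∀ i j, ∑ x ∈ T, a x i * a x j = (if i = j then 1 else 0) + (e : ℤ))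
    (hne : ∀ x ∈ T, ∃ i, a x i ≠ 0) (hT : r + 1 ≤ T.card) (hbig : r ≤ 2 ∨ e + 2 ≤ r) :
    e + r ≤ T.card := by
  rcases Nat.eq_or_lt_of_le he with h1 | h1
  · omega
  let S : Fin r → Finset ι := fun i => T.filter fun x => a x i ≠ 0
  have hsq : ∀ i, ∑ x ∈ T, a x i * a x i = (e : ℤ) + 1 := fun i => by
    rw [hgram, if_pos rfl]; ring
  have hSsum : ∀ i j (f : ι → ℤ), (∀ x, a x i = 0 → f x = 0) → (∀ x, a x j = 0 → f x = 0) →
      ∑ x ∈ T, f x = ∑ x ∈ S i ∩ S j, f x := by
    intro i j f hi hj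
    refine (Finset.sum_subset (fun x hx => (Finset.mem_filter.1 (Finset.mem_inter.1 hx).1).1)
      fun x hxT hx => ?_).symm
    by_cases h : a x i = 0
    · exact hi x h
    · refine hj x ?_
      by_contra hxj
      exact hx (Finset.mem_inter.2 ⟨Finset.mem_filter.2 ⟨hxT, h⟩, Finset.mem_filter.2 ⟨hxT, hxj⟩⟩)
  have hone : ∀ x ∈ T, ∀ i, a x i ^ 2 ≤ 1 := by
    intro x hx i
    by_contra hcon
    have h4 : 4 ≤ a x i * a x i := by
      have h2 : 2 ≤ |a x i| := by
        by_contra h2
        refine hcon ?_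
        rw [← sq_abs]
        nlinarith [abs_nonneg (a x i)]
      rw [← sq, ← sq_abs]
      nlinarith [abs_nonneg (a x i)]
    have hsum := hsq i
    rw [← Finset.add_sum_erase _ _ hx] at hsum
    have hrest : 0 ≤ ∑ y ∈ T.erase x, a y i * a y i :=
      Finset.sum_nonneg fun y _ => mul_self_nonneg _
    have he' : (e : ℤ) = 3 := by omega
    have hx2 : a x i * a x i = 4 := by omega
    have hzero : ∀ y ∈ T, y ≠ x → a y i = 0 := by
      intro y hy hyx
      have h0 : ∑ z ∈ T.erase x, a z i * a z i = 0 := by omega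
      exact mul_self_eq_zero.1 ((Finset.sum_eq_zero_iff_of_nonneg fun z _ => mul_self_nonneg _).1 h0 y
        (Finset.mem_erase.2 ⟨hyx, hy⟩))
    by_cases hj : ∃ j, j ≠ i
    · obtain ⟨j, hj⟩ := hj
      have h := hgram i j
      rw [Finset.sum_eq_single_of_mem x hx fun y hy hyx => by rw [hzero y hy hyx, zero_mul],
        if_neg (Ne.symm hj), he'] at h
      have hv : a x i = 2 ∨ a x i = -2 := by
        have h2 : (a x i - 2) * (a x i + 2) = 0 := by linear_combination hx2
        rcases mul_eq_zero.1 h2 with h3 | h3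
        · left; omega
        · right; omega
      rcases hv with hv | hv <;> rw [hv] at h <;> omega
    · push Not at hj
      obtain ⟨y, hy, hyx⟩ := Finset.exists_mem_ne (show 1 < T.card by omega) x
      obtain ⟨j, hj'⟩ := hne y hy
      exact hj' (by rw [hj j]; exact hzero y hy hyx)
  have hval : ∀ x ∈ T, ∀ i, a x i ≠ 0 → a x i = 1 ∨ a x i = -1 := fun x hx i h => by
    have := hone x hx i
    have h2 : |a x i| ≤ 1 := by nlinarith [sq_abs (a x i), abs_nonneg (a x i)]
    rw [abs_le] at h2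
    omega
  have hcardS : ∀ i, (S i).card = e + 1 := by
    intro i
    have h := hsq i
    rw [hSsum i i _ (fun x hx => by rw [hx, zero_mul]) (fun x hx => by rw [hx, zero_mul]),
      Finset.inter_self, Finset.sum_congr rfl fun x hx => show a x i * a x i = 1 by
        obtain ⟨hxT, hxi⟩ := Finset.mem_filter.1 hx
        rcases hval x hxT i hxi with h | h <;> rw [h] <;> rfl,
      Finset.sum_const, nsmul_eq_mul, mul_one] at h
    exact_mod_cast h
  have hinter : ∀ i j, i ≠ j → (S i ∩ S j).card = e := by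
    intro i j hij
    have h := hgram i j
    rw [if_neg hij, zero_add,
      hSsum i j _ (fun x hx => by rw [hx, zero_mul]) (fun x hx => by rw [hx, mul_zero])] at h
    have hterm : ∀ x ∈ S i ∩ S j, a x i * a x j = 1 ∨ a x i * a x j = -1 := fun x hx => by
      obtain ⟨hi, hj⟩ := Finset.mem_inter.1 hx
      obtain ⟨hxT, hxi⟩ := Finset.mem_filter.1 hi
      rcases hval x hxT i hxi with h1 | h1 <;>
        rcases hval x hxT j (Finset.mem_filter.1 hj).2 with h2 | h2 <;> simp [h1, h2]
    let N := (S i ∩ S j).filter fun x => a x i * a x j = -1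
    have h2 : ∑ x ∈ S i ∩ S j, a x i * a x j = ((S i ∩ S j).card : ℤ) - 2 * N.card := by
      rw [Finset.sum_congr rfl fun x hx => show a x i * a x j =
        1 - 2 * (if a x i * a x j = -1 then 1 else 0) by
          rcases hterm x hx with h | h <;> simp [h],
        Finset.sum_sub_distrib, Finset.sum_const, ← Finset.mul_sum, Finset.sum_boole, nsmul_eq_mul,
        mul_one]
    have h3 : (S i ∩ S j).card ≤ e + 1 := (hcardS i) ▸ Finset.card_le_card Finset.inter_subset_left
    omega
  have hcover : ∀ x ∈ T, ∃ i, x ∈ S i := fun x hx => by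
    obtain ⟨i, hi⟩ := hne x hx
    exact ⟨i, Finset.mem_filter.2 ⟨hx, hi⟩⟩
  have hST : ∀ i, S i ⊆ T := fun i => Finset.filter_subset _ _
  by_cases hr1 : r = 1
  · subst hr1
    rw [← hcardS 0]
    exact Finset.card_le_card (hST 0)
  obtain ⟨i₀, i₁, h01⟩ : ∃ i₀ i₁ : Fin r, i₀ ≠ i₁ :=
    ⟨⟨0, by omega⟩, ⟨1, by omega⟩, by simp [Fin.ext_iff]⟩
  set C := S i₀ ∩ S i₁ with hC
  have hCcard : C.card = e := hinter _ _ h01
  by_cases hall : ∀ i, C ⊆ S i
  · have hx : ∀ i, ∃ x, x ∈ S i \ C := fun i => by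
      refine Finset.card_pos.1 ?_
      rw [Finset.card_sdiff_of_subset (hall i), hcardS, hCcard]
      omega
    choose x hx using hx
    have hinj : Function.Injective x := by
      intro i j h
      by_contra hij
      have hsub : insert (x i) C ⊆ S i ∩ S j := Finset.insert_subset
        (Finset.mem_inter.2 ⟨(Finset.mem_sdiff.1 (hx i)).1, h ▸ (Finset.mem_sdiff.1 (hx j)).1⟩)
        (Finset.subset_inter (hall i) (hall j))
      have := Finset.card_le_card hsub
      rw [Finset.card_insert_of_notMem (Finset.mem_sdiff.1 (hx i)).2, hCcard, hinter i j hij] at this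
      omega
    have hdisj : Disjoint C (Finset.univ.image x) := Finset.disjoint_left.2 fun y hyC hy => by
      obtain ⟨i, -, rfl⟩ := Finset.mem_image.1 hy
      exact (Finset.mem_sdiff.1 (hx i)).2 hyC
    have hsub : C ∪ Finset.univ.image x ⊆ T := Finset.union_subset
      ((Finset.inter_subset_left).trans (hST _)) fun y hy => by
        obtain ⟨i, -, rfl⟩ := Finset.mem_image.1 hy
        exact hST i (Finset.mem_sdiff.1 (hx i)).1
    have := Finset.card_le_card hsub
    rw [Finset.card_union_of_disjoint hdisj, hCcard, Finset.card_image_of_injective _ hinj,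
      Finset.card_univ, Fintype.card_fin] at this
    exact this
  · exfalso
    push Not at hall
    obtain ⟨i₂, h2⟩ := hall
    have h20 : i₂ ≠ i₀ := fun h => h2 (h ▸ Finset.inter_subset_left)
    have h21 : i₂ ≠ i₁ := fun h => h2 (h ▸ Finset.inter_subset_right)
    set U := S i₀ ∪ S i₁ with hU
    have hUcard : U.card = e + 2 := by
      have := Finset.card_union_add_card_inter (S i₀) (S i₁)
      rw [hcardS, hcardS, ← hC, hCcard] at this
      rw [hU]
      omega
    have hout : ∀ j, ¬ S j ⊆ U → S j ∩ U = C := by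
      intro j hj
      have hj0 : j ≠ i₀ := fun h => hj (h ▸ Finset.subset_union_left)
      have hj1 : j ≠ i₁ := fun h => hj (h ▸ Finset.subset_union_right)
      have hlt : (S j ∩ U).card ≤ e := by
        have hss : S j ∩ U ⊂ S j := (Finset.ssubset_iff_subset_ne).2
          ⟨Finset.inter_subset_left, fun h => hj (h ▸ Finset.inter_subset_right)⟩
        have := Finset.card_lt_card hss
        rw [hcardS] at this
        omega
      have e0 : S j ∩ S i₀ = S j ∩ U := Finset.eq_of_subset_of_card_le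
        (Finset.inter_subset_inter_left Finset.subset_union_left) (by rw [hinter j i₀ hj0]; exact hlt)
      have e1 : S j ∩ S i₁ = S j ∩ U := Finset.eq_of_subset_of_card_le
        (Finset.inter_subset_inter_left Finset.subset_union_right) (by rw [hinter j i₁ hj1]; exact hlt)
      refine Finset.eq_of_subset_of_card_le (fun y hy => Finset.mem_inter.2
        ⟨(Finset.mem_inter.1 (e0.symm ▸ hy)).2, (Finset.mem_inter.1 (e1.symm ▸ hy)).2⟩) ?_
      rw [hCcard, ← e0, hinter j i₀ hj0]
    have h2U : S i₂ ⊆ U := by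
      by_contra h
      exact h2 ((hout i₂ h) ▸ Finset.inter_subset_left)
    have hallU : ∀ j, S j ⊆ U := by
      intro j
      by_contra hj
      have hj2 : j ≠ i₂ := fun h => hj (h ▸ h2U)
      have hsub : S j ∩ S i₂ ⊆ C ∩ S i₂ := fun y hy => by
        obtain ⟨hyj, hy2⟩ := Finset.mem_inter.1 hy
        exact Finset.mem_inter.2 ⟨hout j hj ▸ Finset.mem_inter.2 ⟨hyj, h2U hy2⟩, hy2⟩
      have hlt : (C ∩ S i₂).card < C.card := Finset.card_lt_card ((Finset.ssubset_iff_subset_ne).2
        ⟨Finset.inter_subset_left, fun h => h2 (h ▸ Finset.inter_subset_right)⟩)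
      have := Finset.card_le_card hsub
      rw [hinter j i₂ hj2] at this
      omega
    have hTU : T.card ≤ e + 2 := hUcard ▸ Finset.card_le_card fun y hy => by
      obtain ⟨i, hi⟩ := hcover y hy
      exact hallU i hi
    rcases hbig with hb | hb
    · have : i₂.1 = i₀.1 ∨ i₂.1 = i₁.1 := by
        have h01' : i₀.1 ≠ i₁.1 := fun h => h01 (Fin.ext h)
        omega
      rcases this with h | h
      exacts [h20 (Fin.ext h), h21 (Fin.ext h)]
    · omega

end Cfsg.Agent.FreeInertia.Lattice
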