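import Cfsg.Agent.Lib.FreeInertia.Gram
import Cfsg.Agent.Lib.FreeInertia.Lattice
import Cfsg.Agent.Lib.Blocks.CyclicDefect.Setup
import Mathlib.GroupTheory.SpecificGroups.Cyclic

/-!
# Abelian defect groups with freely acting inertial quotient: the counts

With `E` the inertial index and `r = (|P| - 1) / E`: `k(B) = l(B) + r`, `l(B) ≤ E`, and `l(B) = E`
for `E ≤ 3`.
-/

set_option autoImplicit false
set_option linter.unusedSectionVars false
set_option linter.style.haveILetI false

namespace Cfsg.Agent.FreeInertia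

open Cfsg Blocks MonoidAlgebra
open Cfsg.Agent.BrauerPairs (blk blkG stabOf)
open Cfsg.Agent.Blocks.NilRank (eU eU_spec blkSet blkSet_spec isBlockIdem_eU)
open Cfsg.Agent.Watanabe (orb mem_orb)
open scoped Classical

universe u

variable {G : Type u} [Group G] [Fintype G] {M : Ideal AlgInt} [M.IsMaximal] {p : ℕ}
  [hp : Fact p.Prime] [CharP (AlgInt ⧸ M) p] {B : Set (IrrCharacter G)} {P : Subgroup G}
  {e : MonoidAlgebra (AlgInt ⧸ M) G}

namespace Setup

variable (s : Setup p B P e)
include s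

theorem card_orb {x : P} (hx : x ≠ 1) :
    (orb (stabOf P e) (x : G)).card = Nat.card (autE P e) := by
  haveI : Fintype (autE P e) := Fintype.ofFinite _
  have himg : orb (stabOf P e) (x : G) =
      Finset.univ.image fun σ : autE P e => (((σ : MulAut P) x : P) : G) := by
    ext y
    simp only [mem_orb, Finset.mem_image, Finset.mem_univ, true_and]
    constructor
    · rintro ⟨t, ht, rfl⟩
      obtain ⟨σ, hσ, h⟩ := exists_autE ht
      exact ⟨⟨σ, hσ⟩, h x⟩
    · rintro ⟨σ, rfl⟩
      obtain ⟨t, ht, h⟩ := mem_autE σ.2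
      exact ⟨t, ht, (h x).symm⟩
  rw [himg, Finset.card_image_of_injective, Finset.card_univ, Nat.card_eq_fintype_card]
  intro σ τ h
  have h' : (σ : MulAut P) x = (τ : MulAut P) x := Subtype.ext h
  have h1 : ((τ : MulAut P)⁻¹ * (σ : MulAut P)) x = x := by
    rw [MulAut.mul_apply, h']
    exact (τ : MulAut P).symm_apply_apply x
  exact Subtype.ext (inv_mul_eq_one.1 (s.autE_free (mul_mem (inv_mem τ.2) σ.2) hx h1)).symm

theorem blockRank_eU_one :
    blockRank p (blkSet M (Subgroup.centralizer ({(1 : G)} : Set G)) (eU p P e 1)) = blockRank p B := by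
  obtain ⟨h1, h2⟩ := blkSet_spec (isBlockIdem_eU s.pair (one_mem P))
  have h := (Watanabe.rho_kap_eq s.pair (R := Subgroup.zpowers (1 : G))
    Blocks.centralizer_zpowers_eq.symm h1 (by rw [h2]; exact eU_spec s.pair (one_mem P))).1
  rw [h, Subgroup.zpowers_one_eq_bot, (Watanabe.rho_kap_bot s.block s.isMax.1).1]

theorem blockRank_pos : 1 ≤ blockRank p B := by
  obtain ⟨χ₀, hχ₀⟩ := BrauerPairs.nonempty_of_isPBlock s.block
  have h := Watanabe.sum_ctb_block s.hpM s.block s.isMax (one_mem P)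
  rw [s.blockRank_eU_one] at h
  have hex : ∀ χ ∈ Finset.univ.filter (· ∈ B), ∃ r : ℝ, 0 < r ∧ Watanabe.ctb p P e χ 1 = r :=
    fun χ hχ => Watanabe.ctb_pos s.hpM s.block s.isMax s.comm (Finset.mem_filter.1 hχ).2 (one_mem P)
  choose! r hr0 hr using hex
  rw [Finset.sum_congr rfl hr, ← Complex.ofReal_sum] at h
  by_contra h0
  rw [show blockRank p B = 0 by omega, Nat.cast_zero, Complex.ofReal_eq_zero] at h
  have : 0 < ∑ χ ∈ Finset.univ.filter (· ∈ B), r χ :=
    Finset.sum_pos hr0 ⟨χ₀, Finset.mem_filter.2 ⟨Finset.mem_univ _, hχ₀⟩⟩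
  exact this.ne' h

theorem card_eq {r : ℕ} (hr : Nat.card P = 1 + Nat.card (autE P e) * r) :
    Nat.card B = blockRank p B + r := by
  have h := Watanabe.sum_wt s.hpM s.block s.isMax s.comm
  rw [← Finset.add_sum_erase _ _ (Finset.mem_univ (1 : P))] at h
  have h1 : Watanabe.wt p P e ((1 : P) : G) = blockRank p B := by
    have ho : orb (stabOf P e) (1 : G) = {1} := by
      ext y
      simp only [mem_orb, Finset.mem_singleton]
      exact ⟨fun ⟨t, _, ht⟩ => by simpa using ht.symm, fun hy => ⟨1, one_mem _, by simp [hy]⟩⟩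
    rw [Watanabe.wt, OneMemClass.coe_one, s.blockRank_eU_one, ho, Finset.card_singleton, Nat.cast_one,
      div_one]
  have h2 : ∀ x ∈ (Finset.univ : Finset P).erase 1,
      Watanabe.wt p P e (x : G) = 1 / (Nat.card (autE P e) : ℂ) := fun x hx => by
    have hx1 := (Finset.mem_erase.1 hx).1
    rw [Watanabe.wt, s.blockRank_eq_one x.2 (fun h0 => hx1 (Subtype.ext h0)), s.card_orb hx1,
      Nat.cast_one]
  rw [h1, Finset.sum_congr rfl h2, Finset.sum_const, Finset.card_erase_of_mem (Finset.mem_univ _),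
    Finset.card_univ, ← Nat.card_eq_fintype_card, hr, Nat.add_sub_cancel_left, nsmul_eq_mul,
    Nat.cast_mul, mul_one_div, mul_div_cancel_left₀ _ (Nat.cast_ne_zero.2 Nat.card_pos.ne')] at h
  exact_mod_cast h.symm

/-- The counts. -/
theorem counts (hP1 : P ≠ ⊥) :
    ∃ r, Nat.card P = 1 + Nat.card (autE P e) * r ∧ Nat.card B = blockRank p B + r ∧
      blockRank p B ≤ Nat.card (autE P e) ∧
      (Nat.card (autE P e) ≤ 3 → blockRank p B = Nat.card (autE P e)) := by
  obtain ⟨D, hD⟩ := s.isPGroup.exists_card_eq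
  have hD0 : D ≠ 0 := fun h => hP1 (Subgroup.card_eq_one.1 (by rw [hD, h, pow_zero]))
  obtain ⟨r, a, hr, hgram, hne⟩ := s.exists_gram hD hD0
  set E := Nat.card (autE P e) with hE
  have hr0 : r ≠ 0 := fun h => hP1 (Subgroup.card_eq_one.1 (by rw [hr, h, mul_zero, add_zero]))
  have hk := s.card_eq hr
  have hl := s.blockRank_pos
  have hcardB : (Finset.univ.filter (· ∈ B)).card = Nat.card B := by
    rw [Nat.card_eq_fintype_card, Fintype.card_subtype]
  have hne' : ∀ x ∈ Finset.univ.filter (· ∈ B), ∃ i, a x i ≠ 0 :=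
    fun x hx => hne x (Finset.mem_filter.1 hx).2
  have hle : blockRank p B ≤ E := by
    have h := Lattice.card_le hr0 hgram hne'
    rw [hcardB, hk] at h
    omega
  refine ⟨r, hr, hk, hle, fun h3 => le_antisymm hle ?_⟩
  by_cases hcyc : IsCyclic P
  · obtain ⟨c, hc, hce⟩ :=
      BrauerPairs.exists_eq_blk (Subgroup.centralizer (P : Set G)) s.pair.2
    have d : CyclicDefect.Datum M p B P c := ⟨s.modular, s.block, hc, by rw [hce]; exact s.isMax, hcyc, hP1⟩
    have h := d.inIndex_le_blockRank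
    rwa [CyclicDefect.inIndex, CyclicDefect.inGroup, hce, ← card_autE] at h
  have hbig : r ≤ 2 ∨ E + 2 ≤ r := by
    by_contra hcon
    push Not at hcon
    have hD2 : 2 ≤ D := by
      by_contra hD2
      refine hcyc (isCyclic_of_prime_card (p := p) ?_)
      rw [hD, show D = 1 by omega, pow_one]
    have hdvd : p ^ 2 ∣ 1 + E * r := hr ▸ hD ▸ pow_dvd_pow p hD2
    have hle2 := Nat.le_of_dvd (by omega) hdvd
    have hp2 := hp.out.two_le
    have hr' : r ≤ 4 := by omega
    have hsmall : p ≤ 3 := by nlinarith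
    interval_cases E <;> interval_cases r <;> interval_cases p <;> omega
  have h := Lattice.le_card hr0 (Nat.one_le_iff_ne_zero.2 Nat.card_pos.ne') h3 hgram hne'
    (by rw [hcardB, hk]; omega) hbig
  rw [hcardB, hk] at h
  omega

end Setup

end Cfsg.Agent.FreeInertia
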