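import Cfsg.Agent.Lib.Watanabe.Main
import Cfsg.Agent.Lib.Blocks.FirstMain

/-!
# The maximal pair of a block of `C(P)` inducing `B`
-/

set_option autoImplicit false

namespace Cfsg.Agent.FreeInertia

open Cfsg Cfsg.Agent Cfsg.Agent.BrauerPairs
open scoped Cfsg.Agent.Blocks Classical

universe u

variable {G : Type u} [Group G] [Fintype G] {M : Ideal AlgInt} [M.IsMaximal] {p : ℕ} [Fact p.Prime]
  [CharP (AlgInt ⧸ M) p]

theorem isMax_of_induced (hM : IsPModular p M) {B : Set (IrrCharacter G)} (hB : IsPBlock M B)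
    {P : Subgroup G} (hPD : IsDefectGroup p M B P) (hPab : ∀ x ∈ P, ∀ y ∈ P, x * y = y * x)
    {c : Set (IrrCharacter (Subgroup.centralizer (P : Set G)))}
    (hc : IsInducedBlock M (Subgroup.centralizer (P : Set G)) c B) :
    BrauerPairs.IsMax p (blkG M B) (P, blk M _ c) ∧ IsPBlock M c := by
  have hblk : ∀ K : Subgroup G, HasBlocks (AlgInt ⧸ M) K := fun K => hasBlocks M K
  have hBi := isBlockIdem_blkG hB
  obtain ⟨e₀, -, hmax₀⟩ := exists_isMax_of_isDefectGroup hB hPD
  have hP : IsPGroup p P := hmax₀.1.1.1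
  have hPC : P ≤ Subgroup.centralizer (P : Set G) := fun x hx =>
    Subgroup.mem_centralizer_iff.2 fun y hy => hPab y hy x hx
  obtain ⟨χ, hχ⟩ := nonempty_of_isPBlock hB
  have hpairOf : IsBrauerPairOf p M B P c := by
    refine ⟨⟨hP, hc.1⟩, hB, fun ξ hξ => ?_⟩
    have h1 := Blocks.IsInducedBlock.omega_sub hc hξ hχ (Blocks.isCentralElt_blockIdem B)
      (Blocks.scoeff_blockIdem hB)
    rw [Blocks.omega_blockIdem, if_pos hχ] at h1
    have h2 := Blocks.memLocalIdeal_omega_resH_sub_brH hM.2.2 hP hPC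
      (Subgroup.centralizer_le_normalizer _) (Blocks.isCentralElt_blockIdem B)
      (Blocks.scoeff_blockIdem hB) ξ
    have e1 : brauerOmega P (blockCoeff B) ξ.1 =
        Blocks.omega ξ.1 (Blocks.brH P (Subgroup.centralizer (P : Set G)) (Blocks.blockIdem B)) := by
      haveI := Fintype.ofFinite (Subgroup.centralizer (P : Set G))
      rw [Blocks.omega, Blocks.chiL_eq_sum, brauerOmega, finsum_eq_sum_of_fintype, Finset.sum_div]
      exact Finset.sum_congr rfl fun x _ => by
        rw [Blocks.coeff_brH, if_pos x.2, Blocks.coeff_blockIdem]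
    rw [e1]
    simpa using Blocks.MemLocalIdeal.sub h1 h2
  obtain ⟨hcB, hpair⟩ := (isBrauerPairOf_iff hB).1 hpairOf
  refine ⟨?_, hcB⟩
  obtain ⟨g, hg⟩ := exists_conj_ple hblk hBi hmax₀ hpair
  have e1 := hg.eq_of_fst_eq (Subgroup.eq_of_le_of_card_ge hg.le (BrauerPairs.card_map_conj g P).ge)
  have h := hmax₀.conj hBi g⁻¹
  rwa [← e1, conjPair_inv_conjPair] at h

end Cfsg.Agent.FreeInertia
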