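import Mathlib.GroupTheory.GroupAction.Defs
import Mathlib.Data.Fintype.Card
import Mathlib.Algebra.BigOperators.Group.Finset.Basic
import Mathlib.Logic.Equiv.Fintype

/-!
# Free orbits away from one fixed point
-/

set_option autoImplicit false

namespace Cfsg.Agent.FreeInertia

open scoped Classical

universe u v

theorem exists_reps {A : Type u} {X : Type v} [Group A] [Fintype A] [Fintype X] (act : A → X → X)
    (hone : ∀ x, act 1 x = x) (hmul : ∀ a b x, act (a * b) x = act a (act b x)) (x₀ : X)
    (hfix : ∀ a, act a x₀ = x₀) (hfree : ∀ a x, x ≠ x₀ → act a x = x → a = 1) :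
    ∃ (r : ℕ) (rep : Fin r → X), Fintype.card X = 1 + Fintype.card A * r ∧ (∀ i, rep i ≠ x₀) ∧
      (∀ i j a, act a (rep i) = rep j → i = j ∧ a = 1) ∧
      ∀ y, y ≠ x₀ → ∃ i a, act a (rep i) = y := by
  let orbF : X → Finset X := fun x => Finset.univ.image fun a => act a x
  have hinj : ∀ x, x ≠ x₀ → Function.Injective fun a => act a x := by
    intro x hx a b h
    have h1 : act (b⁻¹ * a) x = x := by
      rw [hmul, show act a x = act b x from h, ← hmul, inv_mul_cancel, hone]
    exact (inv_mul_eq_one.1 (hfree _ x hx h1)).symm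
  have horb : ∀ x a, orbF (act a x) = orbF x := by
    intro x a
    ext y
    simp only [orbF, Finset.mem_image, Finset.mem_univ, true_and]
    exact ⟨fun ⟨b, hb⟩ => ⟨b * a, by rw [hmul, hb]⟩,
      fun ⟨b, hb⟩ => ⟨b * a⁻¹, by rw [← hmul, inv_mul_cancel_right, hb]⟩⟩
  have hne : ∀ x a, x ≠ x₀ → act a x ≠ x₀ := fun x a hx h => hx <| by
    rw [← hone x, ← inv_mul_cancel a, hmul, h, hfix]
  let S : Finset X := Finset.univ.erase x₀
  let T : Finset (Finset X) := S.image orbF
  have hrep : ∀ O : T, ∃ x, x ≠ x₀ ∧ orbF x = O := fun O => by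
    obtain ⟨x, hx, h⟩ := Finset.mem_image.1 O.2
    exact ⟨x, (Finset.mem_erase.1 hx).1, h⟩
  choose x hx0 hxO using hrep
  refine ⟨T.card, fun i => x (T.equivFin.symm i), ?_, fun i => hx0 _, fun i j a h => ?_,
    fun y hy => ?_⟩
  · have hfib : ∀ O ∈ T, (S.filter fun y => orbF y = O).card = Fintype.card A := by
      intro O hO
      rw [show O = orbF (x ⟨O, hO⟩) from (hxO ⟨O, hO⟩).symm]
      set z := x ⟨O, hO⟩
      have hz : z ≠ x₀ := hx0 _
      rw [← Finset.card_univ, ← Finset.card_image_of_injective Finset.univ (hinj z hz)]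
      congr 1
      ext y
      simp only [S, Finset.mem_filter, Finset.mem_erase, Finset.mem_univ, and_true, Finset.mem_image,
        true_and]
      constructor
      · rintro ⟨-, hy⟩
        have : y ∈ orbF y := Finset.mem_image.2 ⟨1, Finset.mem_univ _, hone y⟩
        rw [hy] at this
        simpa [orbF] using this
      · rintro ⟨a, rfl⟩
        exact ⟨hne z a hz, horb z a⟩
    have h1 : S.card = T.card * Fintype.card A := by
      rw [Finset.card_eq_sum_card_image orbF S, Finset.sum_congr rfl hfib, Finset.sum_const,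
        smul_eq_mul]
    rw [← Finset.card_univ, ← Finset.card_erase_add_one (Finset.mem_univ x₀), add_comm, h1, mul_comm]
  · have h1 : T.equivFin.symm i = T.equivFin.symm j := Subtype.ext <| by
      rw [← hxO, ← hxO (T.equivFin.symm j)]
      rw [← show act a (x (T.equivFin.symm i)) = x (T.equivFin.symm j) from h, horb]
    have hij : i = j := T.equivFin.symm.injective h1
    subst hij
    exact ⟨rfl, hfree a _ (hx0 _) h⟩
  · have hyT : orbF y ∈ T :=
      Finset.mem_image.2 ⟨y, Finset.mem_erase.2 ⟨hy, Finset.mem_univ _⟩, rfl⟩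
    have h1 : y ∈ orbF (x ⟨orbF y, hyT⟩) := by
      rw [hxO]
      exact Finset.mem_image.2 ⟨1, Finset.mem_univ _, hone y⟩
    obtain ⟨a, -, ha⟩ := Finset.mem_image.1 h1
    exact ⟨T.equivFin ⟨orbF y, hyT⟩, a, by simpa using ha⟩

end Cfsg.Agent.FreeInertia
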