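import Cfsg.Agent.Lib.Blocks.NilpotentRank.Main
import Cfsg.Agent.Lib.Watanabe.Rho
import Cfsg.Agent.Lib.Char.Monomial

/-!
# A block of rank one with a reference character

For a block `b` of a group `H` of rank one, `IsRef p b ν d q` fixes a member `ν` whose restriction
to the regular elements generates those of the block, the decomposition numbers `d`, and
`q = Σ d²`.  For a central `p`-element `z`, `Lc b d θ z` is the generalized decomposition number
of a character `θ` of `H` at `(z, b)`: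

* `secH_eq`: `q` times the contribution of `(z, b)` is `Lc θ * conj (Lc θ')`;
* `exists_cong_trace`: traces of `z y ^ n` are `Lc θ` times those of `y ^ n` on `ν`.
-/

set_option autoImplicit false
set_option linter.unusedSectionVars false
set_option linter.style.haveILetI false

namespace Cfsg.Agent.FreeInertia

open Cfsg Blocks MonoidAlgebra
open Cfsg.Agent.Blocks.NilRank (Cong cong_sum_pow_zero memLocalRing_char exists_cong_chiL_zero_of_notMem
  chiL_single_mul IsTw)
open Cfsg.Agent.BrauerPairs (regDot regDot_comm regDot_eq_zero blkG mapBlock compIrr)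
open scoped Classical ComplexConjugate

universe u

section OneGroup

variable {H : Type u} [Group H] [Fintype H] {M : Ideal AlgInt} [M.IsMaximal] {p : ℕ}
  [hp : Fact p.Prime]

variable (p) in
/-- A reference character and the decomposition numbers of a block of rank one. -/
structure IsRef (b : Set (IrrCharacter H)) (ν : H → ℂ) (d : IrrCharacter H → ℕ) (q : ℕ) : Prop where
  mem : ∃ ν₀ ∈ b, ν = ν₀.1
  reg : ∀ η ∈ b, ∀ s : H, IsPRegular p s → η.1 s = (d η : ℂ) * ν s
  sum_sq : ∑ η ∈ Finset.univ.filter (· ∈ b), d η ^ 2 = q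
  rank : blockRank p b = 1

theorem isPRegular_one : IsPRegular p (1 : H) := fun h =>
  hp.out.not_dvd_one (by rwa [orderOf_one] at h)

/-- The decomposition numbers do not depend on the reference. -/
theorem IsRef.unique {b : Set (IrrCharacter H)} {ν ν' : H → ℂ} {d d' : IrrCharacter H → ℕ}
    {q q' : ℕ} (h : IsRef p b ν d q) (h' : IsRef p b ν' d' q') : ∀ η ∈ b, d η = d' η := by
  obtain ⟨ν₀, hν₀, rfl⟩ := h.mem
  obtain ⟨ν₁, hν₁, rfl⟩ := h'.mem
  have h1 := h'.reg ν₀ hν₀ 1 isPRegular_one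
  have h2 := h.reg ν₁ hν₁ 1 isPRegular_one
  have h3 : ((d' ν₀ * d ν₁ : ℕ) : ℂ) * ν₀.1 1 = 1 * ν₀.1 1 := by
    push_cast
    rw [mul_assoc, ← h2, ← h1, one_mul]
  have h4 : d' ν₀ * d ν₁ = 1 := by exact_mod_cast mul_right_cancel₀ (irr_one_ne_zero ν₀) h3
  rw [Nat.eq_one_of_mul_eq_one_right h4, Nat.cast_one, one_mul] at h1
  intro η hη
  have h5 := h.reg η hη 1 isPRegular_one
  rw [h'.reg η hη 1 isPRegular_one, h1] at h5
  exact_mod_cast (mul_right_cancel₀ (irr_one_ne_zero ν₁) h5).symm

/-- A nilpotent block has a reference. -/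
theorem exists_ref [CharP (AlgInt ⧸ M) p] (hM : IsPModular p M) {b : Set (IrrCharacter H)}
    (hnil : IsNilpotentBlock p M b) :
    ∃ ν d, IsRef p b ν d (p ^ blockDefect p b) := by
  have hl := NilRank.blockRank_eq_one_of_nilpotent hM hnil
  obtain ⟨χ₀, hχ₀, hd⟩ := NilRank.exists_decomposition_one hM hnil
  obtain ⟨φ, d', ⟨n, hn⟩, hdec, hsum⟩ := BrauerPairs.rank_one_data hM.2.2 hnil.1 hl
  choose! d hd using hd
  have h0 := hdec χ₀ hχ₀ 1 isPRegular_one
  have hφ : φ 1 ≠ 0 := fun h => irr_one_ne_zero χ₀ (by rw [h0, h, mul_zero])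
  have hone : d' χ₀ = 1 := by
    have h := hn 1 isPRegular_one
    rw [finsum_mem_eq_toFinset_sum, Finset.sum_congr rfl fun ψ hψ => show
      (n ψ : ℂ) * ψ.1 1 = ((n ψ * d ψ : ℤ) : ℂ) * (d' χ₀ : ℂ) * φ 1 by
        rw [hd ψ (Set.mem_toFinset.1 hψ) 1 isPRegular_one, h0]; push_cast; ring,
      ← Finset.sum_mul, ← Finset.sum_mul] at h
    have h1 : ((((∑ ψ ∈ b.toFinset, n ψ * d ψ) * d' χ₀ : ℤ)) : ℂ) * φ 1 = 1 * φ 1 := by
      push_cast at h ⊢
      rw [← h, one_mul]
    have h2 : (∑ ψ ∈ b.toFinset, n ψ * d ψ) * (d' χ₀ : ℤ) = 1 := by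
      exact_mod_cast mul_right_cancel₀ hφ h1
    rw [mul_comm] at h2
    have h3 := Int.eq_one_of_mul_eq_one_right (by positivity) h2
    exact_mod_cast h3
  refine ⟨χ₀.1, d', ⟨χ₀, hχ₀, rfl⟩, fun η hη s hs => ?_, ?_, hl⟩
  · rw [hdec η hη s hs, hdec χ₀ hχ₀ s hs, hone, Nat.cast_one, one_mul]
  · rw [← hsum, finsum_mem_eq_toFinset_sum]
    exact Finset.sum_congr (by ext; simp) fun _ _ => rfl

/-- The scalar of a central element. -/
noncomputable def sc (z : H) (η : IrrCharacter H) : ℂ := η.1 z / η.1 1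

/-- The generalized decomposition number at `(z, b)`. -/
noncomputable def Lc (b : Set (IrrCharacter H)) (d : IrrCharacter H → ℕ) (θ : H → ℂ) (z : H) : ℂ :=
  ∑ η ∈ Finset.univ.filter (· ∈ b), classInner θ η.1 * sc z η * (d η : ℂ)

theorem apply_zmul {z : H} (hz : ∀ s, Commute z s) (η : IrrCharacter H) (s : H) :
    η.1 (z * s) = sc z η * η.1 s := by
  have hc : IsCentralElt (MonoidAlgebra.single z (1 : ℂ)) :=
    isCentralElt_iff_commute.2 fun a => by
      show _ * _ = _ * _
      rw [single_mul_single, single_mul_single, (hz a).eq]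
  have := chiL_mul_of_central η hc (MonoidAlgebra.single s 1)
  simpa [MonoidAlgebra.single_mul_single, chiL_single, Blocks.omega, sc] using this

theorem sc_pow {z : H} (hz : ∀ s, Commute z s) (η : IrrCharacter H) :
    ∀ t : ℕ, sc (z ^ t) η = sc z η ^ t
  | 0 => by simp [sc, div_self (irr_one_ne_zero η)]
  | t + 1 => by
    rw [pow_succ' (sc z η), ← sc_pow hz η t]
    show η.1 (z ^ (t + 1)) / η.1 1 = sc z η * (η.1 (z ^ t) / η.1 1)
    rw [pow_succ', apply_zmul hz, mul_div_assoc]

theorem sc_one (η : IrrCharacter H) : sc (1 : H) η = 1 := div_self (irr_one_ne_zero η)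

theorem sc_root {z : H} (hz : ∀ s, Commute z s) (η : IrrCharacter H) {N : ℕ} (hN : z ^ N = 1) :
    sc z η ^ N = 1 := by rw [← sc_pow hz, hN, sc_one]

/-- The values along the powers of `z` form a twisted family. -/
theorem isTw_Lc {z : H} (hz : ∀ s, Commute z s) {N : ℕ} (hN : z ^ N = 1)
    (b : Set (IrrCharacter H)) (d : IrrCharacter H → ℕ) {θ : H → ℂ} (hθ : IsCharacter H θ) :
    IsTw N fun t => Lc b d θ (z ^ t) := by
  obtain ⟨m, -, hm⟩ := Char.IsCharacter.exists_decomp hθ
  refine IsTw.of_fintype (fun η => if η ∈ b then (m η : ℤ) * d η else 0) (sc z)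
    (fun η => sc_root hz η hN) fun t => ?_
  rw [Lc, Finset.sum_filter]
  refine Finset.sum_congr rfl fun η _ => ?_
  split_ifs with h
  · rw [hm, sc_pow hz]
    push_cast
    ring
  · simp

theorem memLocalRing_Lc {z : H} (hz : ∀ s, Commute z s) {N : ℕ} (hN0 : N ≠ 0) (hN : z ^ N = 1)
    (b : Set (IrrCharacter H)) (d : IrrCharacter H → ℕ) {θ : H → ℂ} (hθ : IsCharacter H θ) :
    MemLocalRing M (Lc b d θ z) := by
  have h := (isTw_Lc hz hN b d hθ).isIntegral hN0 1
  simp only [pow_one] at h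
  exact memLocalRing_of_isIntegral h

theorem eq_sum_translate {z : H} (hz : ∀ s, Commute z s) {θ : H → ℂ} (hθ : IsCharacter H θ) (s : H) :
    θ (z * s) = ∑ η : IrrCharacter H, classInner θ η.1 * sc z η * η.1 s := by
  have h := congrFun (Char.eq_sum_classInner_smul (Char.IsCharacter.isClassFunction hθ)) (z * s)
  refine h.trans ?_
  simp only [Finset.sum_apply, Pi.smul_apply, smul_eq_mul, apply_zmul hz]
  exact Finset.sum_congr rfl fun η _ => by ring

/-! ### Contributions -/

variable (p) in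
/-- The contribution of `(z, b)`. -/
noncomputable def secH (b : Set (IrrCharacter H)) (z : H) (θ θ' : H → ℂ) : ℂ :=
  (Nat.card H : ℂ)⁻¹ * ∑ s : H, if IsPRegular p s then
    chiL θ (blockIdem b * single (z * s) 1) * conj (θ' (z * s)) else 0

/-- The `b`-part of the translate of `θ`. -/
noncomputable def bpart (b : Set (IrrCharacter H)) (z : H) (θ : H → ℂ) : H → ℂ :=
  ∑ η ∈ Finset.univ.filter (· ∈ b), (classInner θ η.1 * sc z η) • η.1

theorem secH_eq_regDot (hpM : (p : AlgInt) ∈ M) {b : Set (IrrCharacter H)} (hb : IsPBlock M b)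
    {z : H} (hz : ∀ s, Commute z s) {θ θ' : H → ℂ} (hθ : IsCharacter H θ) (hθ' : IsCharacter H θ') :
    secH p b z θ θ' = regDot p (bpart b z θ) (bpart b z θ') := by
  have hleft : ∀ s : H, chiL θ (blockIdem b * single (z * s) 1) = bpart b z θ s := by
    intro s
    have h := sum_mul_blockCoeff (Char.IsCharacter.isClassFunction hθ) b (z * s)
    rw [chiL_mul_single]
    simp only [coeff_blockIdem]
    rw [show ∑ k : H, blockCoeff b k * θ (k * (z * s)) = blockPart b θ (z * s) from
      Eq.trans (Fintype.sum_equiv (Equiv.mulRight (z * s)) _ _ fun k => by simp [mul_comm, mul_assoc]) h,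
      Char.blockPart_apply, bpart, Finset.sum_apply]
    exact Finset.sum_congr rfl fun η _ => by
      rw [Pi.smul_apply, smul_eq_mul, apply_zmul hz, mul_assoc]
  have hsum : secH p b z θ θ' = regDot p (bpart b z θ) (fun s => θ' (z * s)) := by
    rw [secH, regDot, classInner]
    congr 1
    refine Finset.sum_congr rfl fun s _ => ?_
    by_cases hs : IsPRegular p s
    · rw [if_pos hs, hleft, Char.regFun, if_neg (show ¬ p ∣ orderOf s from hs)]
    · rw [if_neg hs, Char.regFun, if_pos (not_not.1 hs : p ∣ orderOf s), zero_mul]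
  rw [hsum]
  have hexp : (fun s => θ' (z * s)) =
      ∑ η : IrrCharacter H, (classInner θ' η.1 * sc z η) • η.1 := by
    funext s
    simp only [Finset.sum_apply, Pi.smul_apply, smul_eq_mul]
    exact eq_sum_translate hz hθ' s
  rw [hexp]
  simp only [bpart, regDot]
  rw [BrauerPairs.regFun_sum, Char.classInner_sum_left, Char.classInner_sum_left]
  simp only [Char.classInner_smul_left, Char.classInner_sum_right, Char.classInner_smul_right]
  refine Finset.sum_congr rfl fun η hη => ?_
  symm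
  refine Finset.sum_subset (Finset.filter_subset _ _) fun η' _ hη' => ?_
  have hη' : η' ∉ b := fun h => hη' (Finset.mem_filter.2 ⟨Finset.mem_univ _, h⟩)
  show _ * (_ * regDot p η.1 η'.1) = 0
  rw [regDot_eq_zero hpM hp.out hb (Finset.mem_filter.1 hη).2 hη', mul_zero, mul_zero]

/-- The quadratic form of the contributions is positive. -/
theorem secH_quad_nonneg (hpM : (p : AlgInt) ∈ M) {b : Set (IrrCharacter H)} (hb : IsPBlock M b)
    {z : H} (hz : ∀ s, Commute z s) {ι : Type*} (S : Finset ι) (θ : ι → H → ℂ)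
    (hθ : ∀ i ∈ S, IsCharacter H (θ i)) (w : ι → ℂ) :
    ∃ r : ℝ, 0 ≤ r ∧ ∑ i ∈ S, ∑ j ∈ S, w i * conj (w j) * secH p b z (θ i) (θ j) = r := by
  set F : H → ℂ := ∑ i ∈ S, w i • Char.regFun p (bpart b z (θ i)) with hF
  refine ⟨(Nat.card H : ℝ)⁻¹ * ∑ s, Complex.normSq (F s), by
    exact mul_nonneg (by positivity) (Finset.sum_nonneg fun s _ => Complex.normSq_nonneg _), ?_⟩
  have h1 : classInner F F = ∑ i ∈ S, ∑ j ∈ S, w i * conj (w j) * secH p b z (θ i) (θ j) := by
    rw [hF, Char.classInner_sum_left]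
    refine Finset.sum_congr rfl fun i hi => ?_
    rw [Char.classInner_smul_left, Char.classInner_sum_right, Finset.mul_sum]
    refine Finset.sum_congr rfl fun j hj => ?_
    rw [Char.classInner_smul_right, BrauerPairs.classInner_regFun_right, regDot,
      BrauerPairs.regFun_regFun, secH_eq_regDot hpM hb hz (hθ i hi) (hθ j hj), regDot]
    ring
  rw [← h1, classInner]
  push_cast
  congr 1
  exact Finset.sum_congr rfl fun s _ => Complex.mul_conj _

theorem IsRef.regFun_eq {b : Set (IrrCharacter H)} {ν : H → ℂ} {d : IrrCharacter H → ℕ} {q : ℕ}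
    (h : IsRef p b ν d q) {η : IrrCharacter H} (hη : η ∈ b) :
    Char.regFun p η.1 = (d η : ℂ) • Char.regFun p ν := by
  funext s
  simp only [Char.regFun, Pi.smul_apply, smul_eq_mul]
  split_ifs with hs
  · rw [mul_zero]
  · rw [h.reg η hη s hs]

/-- `q` times the contribution is the product of the decomposition numbers. -/
theorem IsRef.secH_eq {b : Set (IrrCharacter H)} {ν : H → ℂ} {d : IrrCharacter H → ℕ} {q : ℕ}
    (h : IsRef p b ν d q) (hpM : (p : AlgInt) ∈ M) (hb : IsPBlock M b)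
    {z : H} (hz : ∀ s, Commute z s) {θ θ' : H → ℂ} (hθ : IsCharacter H θ) (hθ' : IsCharacter H θ') :
    (q : ℂ) * secH p b z θ θ' = Lc b d θ z * conj (Lc b d θ' z) := by
  set r : ℂ := classInner (Char.regFun p ν) (Char.regFun p ν) with hr
  have hdot : ∀ η ∈ b, ∀ η' ∈ b, regDot p η.1 η'.1 = (d η : ℂ) * d η' * r := by
    intro η hη η' hη'
    have h2 := BrauerPairs.classInner_regFun_right p (Char.regFun p η.1) η'.1
    rw [regDot, BrauerPairs.regFun_regFun] at h2
    change _ = regDot p η.1 η'.1 at h2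
    rw [← h2, h.regFun_eq hη, h.regFun_eq hη', Char.classInner_smul_left, Char.classInner_smul_right,
      map_natCast, mul_assoc, hr]
  have hqr : (q : ℂ) * r = 1 := by
    have h1 := BrauerPairs.blockRank_eq_sum hpM hp.out hb
    rw [h.rank, Nat.cast_one, ← Finset.sum_subtype (Finset.univ.filter (· ∈ b)) (by simp)
      (fun η : IrrCharacter H => classInner (Char.regFun p η.1) η.1)] at h1
    rw [h1, ← h.sum_sq, Nat.cast_sum, Finset.sum_mul]
    refine Finset.sum_congr rfl fun η hη => ?_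
    show _ = regDot p η.1 η.1
    rw [hdot η (Finset.mem_filter.1 hη).2 η (Finset.mem_filter.1 hη).2, Nat.cast_pow]
    ring
  have hB : ∀ θ : H → ℂ, Char.regFun p (bpart b z θ) = Lc b d θ z • Char.regFun p ν := fun θ => by
    rw [bpart, BrauerPairs.regFun_sum, Lc, Finset.sum_smul]
    refine Finset.sum_congr rfl fun η hη => ?_
    rw [h.regFun_eq (Finset.mem_filter.1 hη).2, smul_smul]
  rw [secH_eq_regDot hpM hb hz hθ hθ', regDot, ← BrauerPairs.regFun_regFun p (bpart b z θ)]
  show (q : ℂ) * regDot p (Char.regFun p (bpart b z θ)) (bpart b z θ') = _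
  rw [← BrauerPairs.classInner_regFun_right, hB, hB, Char.classInner_smul_left,
    Char.classInner_smul_right, ← hr]
  linear_combination (Lc b d θ z * conj (Lc b d θ' z)) * hqr

/-- Traces of high powers are proportional to the decomposition numbers. -/
theorem exists_cong_trace (hpM : (p : AlgInt) ∈ M) [CharP (AlgInt ⧸ M) p]
    {b : Set (IrrCharacter H)} (hb : IsPBlock M b)
    {ν : H → ℂ} {d : IrrCharacter H → ℕ} {q : ℕ} (hR : IsRef p b ν d q) {y : MonoidAlgebra ℂ H}
    (hy : SCoeff M y) (hyb : redA M y * blkG M b = redA M y) {z : H} (hz : ∀ s, Commute z s) {k : ℕ}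
    (hzk : z ^ p ^ k = 1) (a : ℕ) :
    ∃ n₀ : ℕ, ∀ n, n₀ ≤ n → ∀ θ : H → ℂ, IsCharacter H θ →
      Cong M p a (chiL θ (single z 1 * y ^ p ^ n)) (Lc b d θ z * chiL ν (y ^ p ^ n)) := by
  obtain ⟨L₀, hL₀⟩ := exists_cong_chiL_zero_of_notMem hpM hb hy hyb a
  refine ⟨L₀ + a + (Nat.card H).factorization p, fun n hn θ hθ => ?_⟩
  have hLN : L₀ ≤ p ^ n := le_trans (by omega) (Nat.lt_pow_self hp.out.one_lt).le
  obtain ⟨ν₀, hν₀, hνe⟩ := hR.mem
  obtain ⟨m, -, hm⟩ := Char.IsCharacter.exists_decomp hθ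
  have hsc : ∀ η : IrrCharacter H, MemLocalRing M (classInner θ η.1 * sc z η) := fun η =>
    MemLocalRing.mul (hm η ▸ memLocalRing_natCast _) (memLocalRing_of_isIntegral
      (IsIntegral.of_pow (pow_pos hp.out.pos k) (by rw [sc_root hz η hzk]; exact isIntegral_one)))
  have h1 : chiL θ (single z 1 * y ^ p ^ n) =
      ∑ η : IrrCharacter H, classInner θ η.1 * sc z η * chiL η.1 (y ^ p ^ n) := by
    rw [chiL_single_mul]
    simp only [eq_sum_translate hz hθ, chiL_eq_sum, Finset.mul_sum]
    rw [Finset.sum_comm]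
    exact Finset.sum_congr rfl fun η _ => Finset.sum_congr rfl fun g _ => by ring
  have h2 : Lc b d θ z * chiL ν (y ^ p ^ n) = ∑ η : IrrCharacter H, classInner θ η.1 * sc z η *
      if η ∈ b then (d η : ℂ) * chiL ν (y ^ p ^ n) else 0 := by
    simp only [Lc, Finset.sum_mul, mul_assoc, mul_ite, mul_zero]
    rw [Finset.sum_filter]
  rw [h1, h2]
  refine Cong.sum _ fun η _ => Cong.mul_left ?_ (hsc η)
  split_ifs with hη
  · have hνS : ∀ g, MemLocalRing M (ν g) := fun g => hνe ▸ memLocalRing_char (Char.irr_isCharacter ν₀) g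
    have h0 : Cong M p a (∑ g, (y ^ p ^ n).coeff g * (η.1 g - d η * ν g)) 0 :=
      cong_sum_pow_zero (φ := fun g => η.1 g - (d η : ℂ) * ν g) hy
        (fun g h => by rw [irr_classFun η g h, hνe, irr_classFun ν₀ g h])
        (fun g => MemLocalRing.sub (memLocalRing_char (Char.irr_isCharacter η) g)
          (MemLocalRing.mul (memLocalRing_natCast _) (hνS g)))
        (fun g hg => by rw [hR.reg η hη g hg, sub_self]) (by omega)
    have e : chiL η.1 (y ^ p ^ n) =
        ∑ g, (y ^ p ^ n).coeff g * (η.1 g - d η * ν g) + (d η : ℂ) * chiL ν (y ^ p ^ n) := by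
      rw [chiL_eq_sum, chiL_eq_sum, Finset.mul_sum, ← Finset.sum_add_distrib]
      exact Finset.sum_congr rfl fun g _ => by ring
    rw [e]
    simpa using h0.add (Cong.refl a ((d η : ℂ) * chiL ν (y ^ p ^ n)))
  · exact hL₀ _ hLN η hη

end OneGroup

/-! ### Transport along isomorphisms -/

section Transport

variable {L H : Type u} [Group L] [Group H] [Fintype L] [Fintype H] (ι : L ≃* H) {p : ℕ}

theorem chiL_comp (θ : H → ℂ) (w : MonoidAlgebra ℂ L) :
    chiL (fun l => θ (ι l)) w = chiL θ (MonoidAlgebra.mapDomainRingHom ℂ ι.toMonoidHom w) := by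
  rw [chiL_eq_sum, chiL_eq_sum]
  refine Fintype.sum_equiv ι.toEquiv _ _ fun l => ?_
  congr 1
  exact (Finsupp.mapDomain_apply (f := ⇑ι.toMonoidHom) ι.injective w.coeff l).symm

theorem filter_mapBlock (b : Set (IrrCharacter H)) :
    Finset.univ.filter (· ∈ mapBlock ι b) =
      (Finset.univ.filter (· ∈ b)).image (compIrr ι) := by
  ext η
  simp only [Finset.mem_filter, Finset.mem_univ, true_and, Finset.mem_image, mapBlock,
    Set.mem_image]

theorem IsRef.comp {b : Set (IrrCharacter H)} {ν : H → ℂ} {d : IrrCharacter H → ℕ} {q : ℕ}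
    (h : IsRef p b ν d q) :
    IsRef p (mapBlock ι b) (fun l => ν (ι l)) (fun η => d ((compIrr ι).symm η)) q := by
  obtain ⟨ν₀, hν₀, rfl⟩ := h.mem
  refine ⟨⟨compIrr ι ν₀, ⟨ν₀, hν₀, rfl⟩, rfl⟩, ?_, ?_, ?_⟩
  · rintro _ ⟨η, hη, rfl⟩ s hs
    rw [Equiv.symm_apply_apply]
    exact h.reg η hη (ι s) (by rwa [IsPRegular, ι.orderOf_eq])
  · rw [filter_mapBlock, Finset.sum_image fun a _ b _ e => (compIrr ι).injective e]
    simp only [Equiv.symm_apply_apply]
    exact h.sum_sq
  · rw [Watanabe.blockRank_mapBlock]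
    exact h.rank

theorem Lc_comp (b : Set (IrrCharacter H)) (d : IrrCharacter H → ℕ) (θ : H → ℂ) (z : L) :
    Lc (mapBlock ι b) (fun η => d ((compIrr ι).symm η)) (fun l => θ (ι l)) z =
      Lc b d θ (ι z) := by
  rw [Lc, Lc, filter_mapBlock, Finset.sum_image fun a _ b _ e => (compIrr ι).injective e]
  refine Finset.sum_congr rfl fun η _ => ?_
  rw [Equiv.symm_apply_apply, show classInner (fun l => θ (ι l)) (compIrr ι η).1 =
    classInner θ η.1 from Char.classInner_comp_mulEquiv ι θ η.1]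
  simp [sc]

end Transport

end Cfsg.Agent.FreeInertia
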