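import Cfsg.Agent.Lib.Blocks.NilpotentRank.TraceApprox

/-!
# Functions congruent to trace functions, and units of twisted families

`InR M p D F`: modulo `p ^ D` the function `F` agrees with a trace function.  Units have inverses,
all values agree modulo the maximal ideal, and the sum over `P` is `p ^ D` times a local integer
when `|P| = p ^ D`.  `exists_pow_eq_one`: a twisted family of complex numbers of absolute value one,
congruent to one modulo `M`, has `p`-power order.
-/

set_option autoImplicit false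
set_option linter.unusedSectionVars false
set_option linter.style.haveILetI false

namespace Cfsg.Agent.FreeInertia

open Cfsg Blocks MonoidAlgebra
open Cfsg.Agent.Blocks.NilRank (Cong IsTraceFun IsTw memLocalRing_char red_trace_single exists_pow_cong_one
  pa_ne_zero)
open scoped Classical ComplexConjugate

universe u

variable {M : Ideal AlgInt} [M.IsMaximal] {p : ℕ} [hp : Fact p.Prime]

/-! ### Congruences -/

theorem memLocalRing_of_cong {D : ℕ} {x y : ℂ} (h : Cong M p D x y) (hx : MemLocalRing M x) :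
    MemLocalRing M y := by
  have h1 := MemLocalRing.mul h (MemLocalRing.pow (memLocalRing_natCast p) D)
  rw [div_mul_cancel₀ _ (pa_ne_zero D)] at h1
  simpa using MemLocalRing.sub hx h1

theorem cong_pow {D : ℕ} {x y : ℂ} (h : Cong M p D x y) (hx : MemLocalRing M x) :
    ∀ n : ℕ, Cong M p D (x ^ n) (y ^ n)
  | 0 => by simpa using Cong.refl D (1 : ℂ)
  | n + 1 => by
    simp only [pow_succ]
    exact (cong_pow h hx n).mul h (MemLocalRing.pow (memLocalRing_of_cong h hx) n) hx

theorem cong_prod {ι : Type*} (s : Finset ι) {D : ℕ} {f g : ι → ℂ}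
    (h : ∀ i ∈ s, Cong M p D (f i) (g i)) (hf : ∀ i ∈ s, MemLocalRing M (f i)) :
    Cong M p D (∏ i ∈ s, f i) (∏ i ∈ s, g i) := by
  induction s using Finset.induction_on with
  | empty => simpa using Cong.refl D (1 : ℂ)
  | insert a s ha ih =>
    rw [Finset.prod_insert ha, Finset.prod_insert ha]
    exact (h a (Finset.mem_insert_self _ _)).mul
      (ih (fun i hi => h i (Finset.mem_insert_of_mem hi)) fun i hi => hf i (Finset.mem_insert_of_mem hi))
      (memLocalRing_of_cong (h a (Finset.mem_insert_self _ _)) (hf a (Finset.mem_insert_self _ _)))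
      (MemLocalRing.prod _ fun i hi => hf i (Finset.mem_insert_of_mem hi))

/-! ### Trace functions -/

variable {P : Type u} [Group P]

theorem IsTraceFun.memLocalRing {f : P → ℂ} (hf : IsTraceFun M f) (v : P) : MemLocalRing M (f v) := by
  obtain ⟨K, _, _, ψ, φ, z, hψ, hz, -, hf⟩ := hf
  haveI := Fintype.ofFinite K
  rw [hf]
  exact NilRank.memLocalRing_chiL hψ ((scoeff_single _ memLocalRing_one).mul hz)

theorem IsTraceFun.comp {f : P → ℂ} (hf : IsTraceFun M f) {Q : Type u} [Group Q] (σ : Q →* P) :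
    IsTraceFun M fun u => f (σ u) := by
  obtain ⟨K, _, _, ψ, φ, z, hψ, hz, hzi, hf⟩ := hf
  exact ⟨K, inferInstance, inferInstance, ψ, φ.comp σ, z, hψ, hz, fun u g => hzi (σ u) g,
    fun u => hf (σ u)⟩

theorem IsTraceFun.red_eq (hpM : (p : AlgInt) ∈ M) (hP : IsPGroup p P) {f : P → ℂ}
    (hf : IsTraceFun M f) (v : P) : red M (f v) = red M (f 1) := by
  obtain ⟨K, _, _, ψ, φ, z, hψ, hz, hzi, hf⟩ := hf
  haveI := Fintype.ofFinite K
  haveI := charP_residue hpM
  obtain ⟨k, hk⟩ := hP v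
  have h1 := red_trace_single hpM hψ (k := k) (by rw [← map_pow, hk, map_one]) hz (hzi v) 0
  have h2 := red_trace_single hpM hψ (k := k) (one_pow (p ^ k))
    hz (fun g => by rw [one_mul, inv_one, mul_one]) 0
  simp only [pow_zero, pow_one] at h1 h2
  rw [hf, hf, map_one, h1, h2]

variable (M p) in
/-- `F` agrees with a trace function modulo `p ^ D`. -/
def InR (D : ℕ) (F : P → ℂ) : Prop :=
  ∃ g : P → ℂ, IsTraceFun M g ∧ ∀ v, Cong M p D (g v) (F v)

variable {D : ℕ} {F G : P → ℂ}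

theorem InR.of_trace (h : IsTraceFun M F) : InR M p D F := ⟨F, h, fun _ => Cong.refl _ _⟩

theorem InR.congr (h : InR M p D F) (hFG : ∀ v, Cong M p D (F v) (G v)) : InR M p D G := by
  obtain ⟨g, hg, hgF⟩ := h
  exact ⟨g, hg, fun v => (hgF v).trans (hFG v)⟩

theorem InR.memLocalRing (h : InR M p D F) (v : P) : MemLocalRing M (F v) := by
  obtain ⟨g, hg, hgF⟩ := h
  exact memLocalRing_of_cong (hgF v) (IsTraceFun.memLocalRing hg v)

theorem InR.mul (hF : InR M p D F) (hG : InR M p D G) : InR M p D fun v => F v * G v := by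
  obtain ⟨f, hf, hfF⟩ := hF
  obtain ⟨g, hg, hgG⟩ := hG
  exact ⟨_, hf.mul hg, fun v => (hfF v).mul (hgG v)
    (memLocalRing_of_cong (hfF v) (IsTraceFun.memLocalRing hf v)) (IsTraceFun.memLocalRing hg v)⟩

theorem InR.comp (h : InR M p D F) {Q : Type u} [Group Q] (σ : Q →* P) :
    InR M p D fun u => F (σ u) := by
  obtain ⟨g, hg, hgF⟩ := h
  exact ⟨_, IsTraceFun.comp hg σ, fun u => hgF (σ u)⟩

section FiniteGroup

variable [Finite P]

theorem InR.one : InR M p D fun _ : P => (1 : ℂ) := InR.of_trace IsTraceFun.one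

theorem InR.pow (hF : InR M p D F) : ∀ n : ℕ, InR M p D fun v => F v ^ n
  | 0 => by simpa using InR.one
  | n + 1 => by simpa [pow_succ] using InR.mul (InR.pow hF n) hF

theorem InR.prod {ι : Type*} (s : Finset ι) {f : ι → P → ℂ} (h : ∀ i ∈ s, InR M p D (f i)) :
    InR M p D fun v => ∏ i ∈ s, f i v := by
  induction s using Finset.induction_on with
  | empty => simpa using InR.one
  | insert a s ha ih =>
    simp only [Finset.prod_insert ha]
    exact InR.mul (h a (Finset.mem_insert_self _ _)) (ih fun i hi => h i (Finset.mem_insert_of_mem hi))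

theorem InR.red_eq (hpM : (p : AlgInt) ∈ M) (hD : D ≠ 0) (hP : IsPGroup p P) (h : InR M p D F) (v : P) :
    red M (F v) = red M (F 1) := by
  have hF := h.memLocalRing
  obtain ⟨g, hg, hgF⟩ := h
  have e : ∀ w, red M (g w) = red M (F w) := fun w =>
    (red_eq_iff (IsTraceFun.memLocalRing hg w) (hF w)).2 ((hgF w).memLocalIdeal hpM hD)
  rw [← e, ← e, IsTraceFun.red_eq hpM hP hg v]

theorem InR.not_memLocalIdeal (hpM : (p : AlgInt) ∈ M) (hD : D ≠ 0) (hP : IsPGroup p P)
    (h : InR M p D F) (hu : red M (F 1) ≠ 0) (v : P) : ¬ MemLocalIdeal M (F v) := fun hv =>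
  hu (by rw [← h.red_eq hpM hD hP v]; exact red_eq_zero_of_mem hv)

/-- Units have inverses. -/
theorem InR.exists_inv (hpM : (p : AlgInt) ∈ M) (hD : D ≠ 0) (hP : IsPGroup p P) (h : InR M p D F)
    (hu : red M (F 1) ≠ 0) : ∃ G : P → ℂ, InR M p D G ∧ ∀ v, Cong M p D (F v * G v) 1 := by
  haveI := Fintype.ofFinite P
  obtain ⟨f, hf0, hf⟩ := Blocks.exists_pow_eq hpM (red M (F 1))
  have hf2 : 1 < p ^ f := Nat.one_lt_pow hf0.ne' hp.out.one_lt
  have hdq : red M (F 1) ^ (p ^ f - 1) = 1 := by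
    refine mul_right_cancel₀ hu ?_
    rw [one_mul, ← pow_succ, Nat.sub_add_cancel hf2.le, hf]
  have hK : ∀ v : P, ∃ K : ℕ, ∀ k, K ≤ k → Cong M p D ((F v ^ (p ^ f - 1)) ^ p ^ k) 1 := by
    intro v
    refine exists_pow_cong_one hpM (MemLocalRing.pow (h.memLocalRing v) _) ?_ D
    refine (red_eq_iff (MemLocalRing.pow (h.memLocalRing v) _) memLocalRing_one).1 ?_
    rw [red_pow (h.memLocalRing v), h.red_eq hpM hD hP v, hdq, red_one]
  choose K hK using hK
  set E := (p ^ f - 1) * p ^ (∑ v, K v)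
  have hE : E ≠ 0 := mul_ne_zero (by omega) (pow_ne_zero _ hp.out.ne_zero)
  refine ⟨_, h.pow (E - 1), fun v => ?_⟩
  rw [← pow_succ', Nat.sub_add_cancel (Nat.one_le_iff_ne_zero.2 hE), pow_mul]
  exact hK v _ (Finset.single_le_sum (fun w _ => Nat.zero_le (K w)) (Finset.mem_univ v))

theorem InR.memLocalRing_sum_div [Fintype P] (hcard : Nat.card P = p ^ D) (h : InR M p D F) :
    MemLocalRing M ((∑ v, F v) / (Nat.card P : ℂ)) := by
  obtain ⟨g, hg, hgF⟩ := h
  have h1 := hg.memLocalRing_sum_div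
  have h2 : MemLocalRing M ((∑ v, (g v - F v)) / (Nat.card P : ℂ)) := by
    rw [Finset.sum_div]
    refine MemLocalRing.sum _ fun v _ => ?_
    have := hgF v
    rwa [Cong, ← Nat.cast_pow, ← hcard] at this
  have h3 := MemLocalRing.sub h1 h2
  rwa [← sub_div, ← Finset.sum_sub_distrib, Finset.sum_congr rfl fun v _ => sub_sub_cancel (g v) (F v)]
    at h3

end FiniteGroup

/-! ### Twisted families -/

theorem isTw_conj {N : ℕ} {f : ℕ → ℂ} (hf : IsTw N f) : IsTw N fun t => conj (f t) := by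
  obtain ⟨r, c, μ, hμ, hf⟩ := hf
  refine ⟨r, c, fun i => conj (μ i), fun i => by rw [← map_pow, hμ, map_one], fun t => ?_⟩
  show conj (f t) = _
  rw [hf, map_sum]
  exact Finset.sum_congr rfl fun i _ => by rw [map_mul, map_intCast, map_pow]

theorem isTw_pow {N : ℕ} {f : ℕ → ℂ} (hf : IsTw N f) : ∀ n : ℕ, IsTw N fun t => f t ^ n
  | 0 => by simpa using IsTw.intCast (N := N) 1
  | n + 1 => by simpa [pow_succ] using IsTw.mul (isTw_pow hf n) hf

theorem isTw_add {N : ℕ} {f g : ℕ → ℂ} (hf : IsTw N f) (hg : IsTw N g) :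
    IsTw N fun t => f t + g t := by
  have h := IsTw.sum (ι := Bool) (f := fun b => if b then f else g)
    (fun b => by cases b <;> simpa)
  simpa using h

theorem isTw_sub {N : ℕ} {f g : ℕ → ℂ} (hf : IsTw N f) (hg : IsTw N g) :
    IsTw N fun t => f t - g t := by
  have h := isTw_add hf (IsTw.mul (IsTw.intCast (-1)) hg)
  simpa [sub_eq_add_neg] using h

theorem sum_pow [Fintype P] (hP : IsPGroup p P) {t : ℕ} (ht : ¬ p ∣ t) {β : Type*} [AddCommMonoid β]
    (f : P → β) : ∑ u : P, f (u ^ t) = ∑ u, f u := by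
  obtain ⟨k, hk⟩ := hP.exists_card_eq
  exact Fintype.sum_equiv
    (powCoprime (n := t) (by rw [hk]; exact (hp.out.coprime_iff_not_dvd.2 ht).pow_left k)) _ _
    fun _ => rfl

/-- Twisted families of absolute value one congruent to one have `p`-power order. -/
theorem exists_pow_eq_one [Fintype P] (hpM : (p : AlgInt) ∈ M) (hP : IsPGroup p P) {D : ℕ}
    (hcard : Nat.card P = p ^ D) (f : P → ℕ → ℂ) (hf : ∀ v, IsTw (p ^ D * p) (f v))
    (hpow : ∀ v : P, v ≠ 1 → ∀ t, ¬ p ∣ t → f v t = f (v ^ t) 1)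
    (hnorm : ∀ v : P, v ≠ 1 → f v 1 * conj (f v 1) = 1)
    (hone : ∀ v : P, v ≠ 1 → MemLocalIdeal M (f v 1 - 1)) :
    ∃ K : ℕ, ∀ v : P, v ≠ 1 → f v 1 ^ p ^ K = 1 := by
  have hN0 : p ^ D * p ≠ 0 := mul_ne_zero (pow_ne_zero _ hp.out.ne_zero) hp.out.ne_zero
  have hS : ∀ v, MemLocalRing M (f v 1) := fun v =>
    memLocalRing_of_isIntegral ((hf v).isIntegral hN0 1)
  have hK : ∀ v : P, ∃ K : ℕ, ∀ k, K ≤ k → v ≠ 1 → Cong M p (D + 3) (f v 1 ^ p ^ k) 1 := by
    intro v
    by_cases hv : v = 1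
    · exact ⟨0, fun k _ h => absurd hv h⟩
    obtain ⟨K, hK⟩ := exists_pow_cong_one hpM (hS v) (hone v hv) (D + 3)
    exact ⟨K, fun k hk _ => hK k hk⟩
  choose K hK using hK
  set Q := p ^ (∑ v, K v)
  refine ⟨∑ v, K v, ?_⟩
  have hc : ∀ v : P, v ≠ 1 → Cong M p (D + 3) (f v 1 ^ Q) 1 := fun v hv =>
    hK v _ (Finset.single_le_sum (fun w _ => Nat.zero_le (K w)) (Finset.mem_univ v)) hv
  have h1pow : ∀ (v : P) (t : ℕ), ¬ p ∣ t → (v ^ t = 1 ↔ v = 1) := fun v t ht => by
    refine ⟨fun h => ?_, fun h => by rw [h, one_pow]⟩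
    obtain ⟨k, hk⟩ := hP v
    exact orderOf_eq_one_iff.1 (Nat.eq_one_of_dvd_coprimes
      ((hp.out.coprime_iff_not_dvd.2 ht).pow_left k) (orderOf_dvd_of_pow_eq_one hk)
      (orderOf_dvd_of_pow_eq_one h))
  let F : P → ℕ → ℂ := fun v t =>
    if v = 1 then 0 else (f v t ^ Q - 1) * conj (f v t ^ Q - 1)
  have hF : ∀ v, IsTw (p ^ D * p) (F v) := fun v => by
    by_cases hv : v = 1
    · simpa [F, hv] using IsTw.intCast (N := p ^ D * p) 0
    · simp only [F, if_neg hv]
      have h : IsTw (p ^ D * p) fun t => f v t ^ Q - 1 := by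
        simpa using isTw_sub (isTw_pow (hf v) Q) (IsTw.intCast (N := p ^ D * p) 1)
      exact IsTw.mul h (isTw_conj h)
  obtain ⟨z, hz⟩ := IsTw.exists_int (k := D) hp.out (IsTw.sum hF) (fun t ht => by
    show ∑ v, F v t = ∑ v, F v 1
    rw [← sum_pow hP ht (fun v => F v 1)]
    refine Finset.sum_congr rfl fun v _ => ?_
    by_cases hv : v = 1
    · simp [F, hv]
    · simp only [F, if_neg hv, if_neg (mt (h1pow v t ht).1 hv)]
      rw [hpow v hv t ht])
  have hreal : ((∑ v, if v = 1 then 0 else Complex.normSq (f v 1 ^ Q - 1) : ℝ) : ℂ) = (z : ℂ) := by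
    rw [← hz, Complex.ofReal_sum]
    refine Finset.sum_congr rfl fun v _ => ?_
    by_cases hv : v = 1
    · simp [F, hv]
    · simp only [F, if_neg hv, Complex.mul_conj]
  have hreal' : (∑ v, if v = 1 then 0 else Complex.normSq (f v 1 ^ Q - 1) : ℝ) = (z : ℝ) := by
    exact_mod_cast hreal
  have hnonneg : ∀ v : P, 0 ≤ (if v = 1 then 0 else Complex.normSq (f v 1 ^ Q - 1) : ℝ) := fun v => by
    split_ifs
    exacts [le_rfl, Complex.normSq_nonneg _]
  have hnorm1 : ∀ v : P, v ≠ 1 → ‖f v 1‖ = 1 := fun v hv => by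
    have h := hnorm v hv
    rw [Complex.mul_conj'] at h
    have h' : ‖f v 1‖ ^ 2 = 1 := by exact_mod_cast h
    exact (pow_eq_one_iff_of_nonneg (norm_nonneg _) two_ne_zero).1 h'
  have hle : (z : ℝ) ≤ 4 * (p : ℝ) ^ D := by
    rw [← hreal', show (4 : ℝ) * (p : ℝ) ^ D = ∑ _v : P, (4 : ℝ) by
      rw [Finset.sum_const, Finset.card_univ, ← Nat.card_eq_fintype_card, hcard, nsmul_eq_mul]
      push_cast; ring]
    refine Finset.sum_le_sum fun v _ => ?_
    by_cases hv : v = 1
    · simp [hv]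
    · rw [if_neg hv, ← Complex.sq_norm]
      have h2 : ‖f v 1 ^ Q - 1‖ ≤ 2 := (norm_sub_le _ _).trans (by
        rw [norm_pow, hnorm1 v hv, one_pow, norm_one]; norm_num)
      nlinarith [norm_nonneg (f v 1 ^ Q - 1)]
  have hdvd : (p : ℤ) ^ (D + 3) ∣ z := by
    have h : MemLocalRing M ((z : ℂ) / ((p ^ (D + 3) : ℕ) : ℂ)) := by
      rw [← hz, Finset.sum_div]
      refine MemLocalRing.sum _ fun v _ => ?_
      by_cases hv : v = 1
      · simp [F, hv, memLocalRing_zero]
      simp only [F, if_neg hv]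
      rw [mul_div_right_comm, Nat.cast_pow]
      refine MemLocalRing.mul (hc v hv) ?_
      have hS' : MemLocalRing M (conj (f v 1)) :=
        memLocalRing_of_isIntegral ((isTw_conj (hf v)).isIntegral hN0 1)
      rw [map_sub, map_pow, map_one]
      exact MemLocalRing.sub (MemLocalRing.pow hS' _) memLocalRing_one
    rwa [Char.memLocalRing_intCast_div_iff hpM z (pow_ne_zero _ hp.out.ne_zero),
      hp.out.factorization_pow, Finsupp.single_eq_same] at h
  have hz0 : z = 0 := by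
    by_contra hne
    have hzpos : 0 < z := lt_of_le_of_ne (by
      have : (0 : ℝ) ≤ (z : ℝ) := hreal' ▸ Finset.sum_nonneg fun v _ => hnonneg v
      exact_mod_cast this) (Ne.symm hne)
    have h1 := Int.le_of_dvd hzpos hdvd
    have h2 : z ≤ 4 * (p : ℤ) ^ D := by exact_mod_cast hle
    have h3 : (8 : ℤ) ≤ (p : ℤ) ^ 3 := by
      have := Nat.pow_le_pow_left hp.out.two_le 3
      exact_mod_cast this
    have h4 : (0 : ℤ) < (p : ℤ) ^ D := by
      have := hp.out.pos
      positivity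
    rw [pow_add] at h1
    nlinarith
  intro v hv
  rw [hz0, Int.cast_zero, Finset.sum_eq_zero_iff_of_nonneg fun v _ => hnonneg v] at hreal'
  have := hreal' v (Finset.mem_univ v)
  rw [if_neg hv, Complex.normSq_eq_zero, sub_eq_zero] at this
  exact this

end Cfsg.Agent.FreeInertia
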