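import Cfsg.Agent.Lib.FreeInertia.Local
import Cfsg.Agent.Lib.FreeInertia.TraceRing
import Cfsg.Agent.Lib.BrauerPairs.Sub

/-!
# Traces on the sections of the centralizers

For `1 ≠ Q ≤ P` and `v ∈ P`, the trace function of a character of `C(Q)` is congruent to its
decomposition number times the trace at `C(Q⟨v⟩)`; for height zero that number has absolute value one.
-/

set_option autoImplicit false
set_option linter.unusedSectionVars false
set_option linter.style.haveILetI false

namespace Cfsg.Agent.FreeInertia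

open Cfsg Blocks MonoidAlgebra
open Cfsg.Agent.BrauerPairs (blk blkG br conjEl inclPair IsPair IsMax PLE Step stabOf hasBlocks
  incl mapBlock compIrr regDot)
open Cfsg.Agent.Blocks.NilRank (Cong IsTraceFun IsTw eU eU_spec blkSet blkSet_spec blkSet_blk sectF TT Tof
  truncC cong_chiL_pow_trunc coeff_pow_conj)
open scoped Classical ComplexConjugate

universe u

section General

theorem chiL_mapDomain {H K : Type u} [Group H] [Finite H] [Group K] [Finite K] (j : H →* K)
    (hj : Function.Injective j) (η : K → ℂ) (w : MonoidAlgebra ℂ H) :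
    chiL η (MonoidAlgebra.mapDomainRingHom ℂ j w) = chiL (fun k => η (j k)) w := by
  haveI := Fintype.ofFinite H
  haveI := Fintype.ofFinite K
  rw [chiL_eq_sum, chiL_eq_sum]
  symm
  refine Finset.sum_bij_ne_zero (fun k _ _ => j k) (fun _ _ _ => Finset.mem_univ _)
    (fun a _ _ b _ _ h => hj h) (fun g _ hg => ?_) fun k _ _ => ?_
  · have hmem : g ∈ Set.range j := by
      by_contra h
      apply hg
      rw [show (MonoidAlgebra.mapDomainRingHom ℂ j w).coeff g = 0 from
        Finsupp.mapDomain_of_notMem_range (f := ⇑j) w.coeff g h, zero_mul]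
    obtain ⟨k, rfl⟩ := hmem
    refine ⟨k, Finset.mem_univ _, ?_, rfl⟩
    rwa [show (MonoidAlgebra.mapDomainRingHom ℂ j w).coeff (j k) = w.coeff k from
      Finsupp.mapDomain_apply (f := ⇑j) hj w.coeff k] at hg
  · rw [show (MonoidAlgebra.mapDomainRingHom ℂ j w).coeff (j k) = w.coeff k from
      Finsupp.mapDomain_apply (f := ⇑j) hj w.coeff k]

theorem sectF_eq_secH {K : Type u} [Group K] [Fintype K] {p : ℕ} (L : Subgroup K) {x : K} (hx : x ∈ L)
    (b : Set (IrrCharacter L)) (χ ψ : K → ℂ) :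
    sectF p L x b χ ψ = secH p b (⟨x, hx⟩ : L) (fun t => χ t) (fun t => ψ t) := by
  rw [sectF, secH, finsum_eq_sum_of_fintype]
  congr 1
  refine Finset.sum_congr rfl fun t _ => ?_
  refine if_congr Iff.rfl ?_ rfl
  rw [show x * (t : K) = ((⟨x, hx⟩ * t : L) : K) from rfl, ← inclA_single, ← map_mul, chiL_inclA]

variable {G : Type u} [Group G] [Fintype G] {M : Ideal AlgInt} [M.IsMaximal]

/-- The identification of a nested subgroup. -/
noncomputable def nestEquiv {K H : Subgroup G} {L : Subgroup K} (h : L.map K.subtype = H) : L ≃* H :=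
  (L.equivMapOfInjective K.subtype K.subtype_injective).trans (MulEquiv.subgroupCongr h)

theorem coe_nestEquiv {K H : Subgroup G} {L : Subgroup K} (h : L.map K.subtype = H) (l : L) :
    ((nestEquiv h l : H) : G) = ((l : K) : G) := rfl

theorem blk_nestEquiv {K H : Subgroup G} {L : Subgroup K} (h : L.map K.subtype = H)
    (b : Set (IrrCharacter L)) :
    blk M H (mapBlock (nestEquiv h).symm b) = incl K (AlgInt ⧸ M) (blk M L b) := by
  subst h
  exact Watanabe.blk_nested L b

theorem mapBlock_mapBlock_symm {L H : Type u} [Group L] [Group H] (ι : L ≃* H)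
    (b : Set (IrrCharacter L)) : mapBlock ι (mapBlock ι.symm b) = b := by
  have hcomp : ∀ η : IrrCharacter L, compIrr ι (compIrr ι.symm η) = η := fun η =>
    Subtype.ext (funext fun l => by simp)
  unfold BrauerPairs.mapBlock
  rw [Set.image_image]
  simp only [hcomp, Set.image_id']

/-- Extension by zero. -/
noncomputable def extFun {K : Subgroup G} (η : K → ℂ) : G → ℂ :=
  fun g => if h : g ∈ K then η ⟨g, h⟩ else 0

theorem extFun_apply {K : Subgroup G} (η : K → ℂ) {g : G} (h : g ∈ K) : extFun η g = η ⟨g, h⟩ :=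
  dif_pos h

theorem isCharacter_extFun {K H : Subgroup G} (hHK : H ≤ K) {η : K → ℂ} (hη : IsCharacter K η) :
    IsCharacter H fun t : H => extFun η t := by
  have h := Char.IsCharacter.comp hη (Subgroup.inclusion hHK)
  convert h using 1
  funext t
  exact extFun_apply η (hHK t.2)

end General

variable {G : Type u} [Group G] [Fintype G] {M : Ideal AlgInt} [M.IsMaximal] {p : ℕ}
  [hp : Fact p.Prime] [CharP (AlgInt ⧸ M) p] {B : Set (IrrCharacter G)} {P : Subgroup G}
  {e : MonoidAlgebra (AlgInt ⧸ M) G}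

theorem LH_eq {H : Subgroup G} {f : MonoidAlgebra (AlgInt ⧸ M) G} {θ : G → ℂ} {x : G} (hx : x ∈ H) :
    LH M p H f θ x = Lc (blkSet M H f) (refData M p H f).2 (fun t : H => θ t) ⟨x, hx⟩ := dif_pos hx

theorem isTw_LH {H : Subgroup G} (f : MonoidAlgebra (AlgInt ⧸ M) G) {θ : G → ℂ}
    (hθ : IsCharacter H fun t : H => θ t) {x : G} (hx : x ∈ H) (hc : ∀ y ∈ H, Commute x y) {N : ℕ}
    (hN : x ^ N = 1) : IsTw N fun t => LH M p H f θ (x ^ t) := by
  have h := isTw_Lc (z := (⟨x, hx⟩ : H)) (fun y => Subtype.ext (hc y y.2)) (Subtype.ext hN)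
    (blkSet M H f) (refData M p H f).2 hθ
  convert h using 1
  funext t
  rw [LH_eq (pow_mem hx t)]
  rfl

namespace Setup

variable (s : Setup p B P e)
include s

theorem incl_redA_resH (R : Subgroup G) (a : MonoidAlgebra ℂ G) :
    incl (Subgroup.centralizer (R : Set G)) (AlgInt ⧸ M)
        (redA M (resH (Subgroup.centralizer (R : Set G)) a)) = br R (redA M a) := by
  refine alg_ext fun g => ?_
  by_cases hg : g ∈ Subgroup.centralizer (R : Set G)
  · rw [BrauerPairs.coeff_br_of_mem _ hg]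
    refine (BrauerPairs.coeff_incl_coe _ _ (⟨g, hg⟩ : Subgroup.centralizer (R : Set G))).trans ?_
    simp only [coeff_redA, coeff_resH]
  · rw [BrauerPairs.coeff_br_of_notMem _ hg, BrauerPairs.coeff_incl_of_notMem _ _ hg]

variable {a : MonoidAlgebra ℂ G} (haS : SCoeff M a)
  (hloc : ∀ R, R ≤ P → br R (redA M a) * fR p P e R = br R (redA M a))
include haS hloc

theorem exists_cong_section (D : ℕ) {R : Subgroup G} (hR : R ≤ P) (hR1 : R ≠ ⊥) {x : G}
    (hx : x ∈ R) (hxC : x ∈ Subgroup.centralizer (R : Set G)) :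
    ∃ n₀ : ℕ, ∀ n, n₀ ≤ n → ∀ θ : G → ℂ,
      IsCharacter (Subgroup.centralizer (R : Set G)) (fun t : Subgroup.centralizer (R : Set G) => θ t) →
      Cong M p D (chiL (fun t : Subgroup.centralizer (R : Set G) => θ t)
          (single ⟨x, hxC⟩ 1 * resH (Subgroup.centralizer (R : Set G)) a ^ p ^ n))
        (LH M p (Subgroup.centralizer (R : Set G)) (fR p P e R) θ x *
          muH M p (Subgroup.centralizer (R : Set G)) (fR p P e R) a n) := by
  obtain ⟨hb, hbe⟩ := s.block_spec hR
  obtain ⟨k, hk⟩ := NilRank.exists_orderOf_mem s.isPGroup (hR hx)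
  obtain ⟨_, hc⟩ := s.central_mem hx hR
  have hyb : redA M (resH (Subgroup.centralizer (R : Set G)) a) *
      blkG M (blkSet M (Subgroup.centralizer (R : Set G)) (fR p P e R)) =
      redA M (resH (Subgroup.centralizer (R : Set G)) a) := by
    refine BrauerPairs.incl_injective _ ?_
    rw [map_mul, s.incl_redA_resH]
    change _ * BrauerPairs.blk M _ _ = _
    rw [hbe]
    exact hloc R hR
  obtain ⟨n₀, hn₀⟩ := exists_cong_trace s.hpM hb (s.isRef hR hR1) (scoeff_resH haS) hyb hc (k := k)
    (Subtype.ext (show x ^ p ^ k = 1 by rw [← hk, pow_orderOf_eq_one])) D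
  refine ⟨n₀, fun n hn θ hθ => ?_⟩
  rw [LH_eq hxC]
  exact hn₀ n hn _ hθ

omit hloc in
theorem cong_trunc (hinv : ∀ v ∈ P, ∀ g, a.coeff (v * g * v⁻¹) = a.coeff g) {K H : Subgroup G}
    (hHK : H ≤ K) {v : G} (hHeq : H = K ⊓ Subgroup.centralizer ({v} : Set G)) (hv : v ∈ P)
    (η : IrrCharacter K) (n : ℕ) (hvK : v ∈ K) (hvH : v ∈ H) :
    Cong M p n (chiL η.1 (single ⟨v, hvK⟩ 1 * resH K a ^ p ^ n))
      (chiL (fun t : H => extFun η.1 t) (single ⟨v, hvH⟩ 1 * resH H a ^ p ^ n)) := by
  obtain ⟨k, hk⟩ := NilRank.exists_orderOf_mem s.isPGroup hv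
  have h := cong_chiL_pow_trunc (M := M) (u := (⟨v, hvK⟩ : K)) (k := k)
    (Subtype.ext (show v ^ p ^ k = 1 by rw [← hk, pow_orderOf_eq_one]))
    (scoeff_resH (H := K) haS) (fun g => by simp only [coeff_resH]; exact hinv v hv _)
    (Char.irr_isCharacter η) n
  set j := Subgroup.inclusion hHK with hj
  have htr : truncC (⟨v, hvK⟩ : K) (resH K a) = MonoidAlgebra.mapDomainRingHom ℂ j (resH H a) := by
    refine alg_ext fun g => ?_
    simp only [truncC, coeff_ofFun, coeff_resH]
    split_ifs with hg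
    · have hgH : (g : G) ∈ H :=
        hHeq.ge ⟨g.2, Subgroup.mem_centralizer_singleton_iff.2 (congrArg Subtype.val hg).symm⟩
      have hje : j ⟨g, hgH⟩ = g := rfl
      conv_rhs => rw [← hje]
      rw [show (MonoidAlgebra.mapDomainRingHom ℂ j (resH H a)).coeff (j ⟨g, hgH⟩) =
        (resH H a).coeff ⟨g, hgH⟩ from
          Finsupp.mapDomain_apply (f := ⇑j) (Subgroup.inclusion_injective hHK) _ _, coeff_resH]
    · refine (Finsupp.mapDomain_of_notMem_range (f := ⇑j) (resH H a).coeff g ?_).symm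
      rintro ⟨t, rfl⟩
      apply hg
      exact Subtype.ext (Subgroup.mem_centralizer_singleton_iff.1 (hHeq.le t.2).2).symm
  have hsingle : single (⟨v, hvK⟩ : K) (1 : ℂ) =
      MonoidAlgebra.mapDomainRingHom ℂ j (single ⟨v, hvH⟩ 1) :=
    (show MonoidAlgebra.mapDomain (⇑j) (single ⟨v, hvH⟩ (1 : ℂ)) = single (j ⟨v, hvH⟩) 1 from
      MonoidAlgebra.mapDomain_single).symm
  rw [htr, hsingle, ← map_pow, ← map_mul,
    chiL_mapDomain j (Subgroup.inclusion_injective hHK)] at h
  rw [show (fun t : H => extFun η.1 (t : G)) = fun t : H => η.1 (j t) from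
    funext fun t => extFun_apply η.1 (hHK t.2), hsingle]
  exact h

omit haS hloc in
theorem eU_nested {Q : Subgroup G} (hQ : Q ≤ P)
    {E : MonoidAlgebra (AlgInt ⧸ M) (Subgroup.centralizer (Q : Set G))}
    (hE : IsPair p (P.subgroupOf (Subgroup.centralizer (Q : Set G)), E))
    (hinc : incl (Subgroup.centralizer (Q : Set G)) (AlgInt ⧸ M) E = e)
    {x : Subgroup.centralizer (Q : Set G)} (hx : x ∈ P.subgroupOf (Subgroup.centralizer (Q : Set G))) :
    (Subgroup.centralizer ({x} : Set (Subgroup.centralizer (Q : Set G)))).map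
        (Subgroup.centralizer (Q : Set G)).subtype =
      Subgroup.centralizer ((Q ⊔ Subgroup.zpowers (x : G) : Subgroup G) : Set G) ∧
    incl (Subgroup.centralizer (Q : Set G)) (AlgInt ⧸ M)
        (eU p (P.subgroupOf (Subgroup.centralizer (Q : Set G))) E x) =
      fR p P e (Q ⊔ Subgroup.zpowers (x : G)) := by
  have hblk' : ∀ L : Subgroup (Subgroup.centralizer (Q : Set G)), BrauerPairs.HasBlocks (AlgInt ⧸ M) L := fun L => hasBlocks M L
  have hPK : P ≤ (Subgroup.centralizer (Q : Set G)) := s.le_centralizer hQ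
  have hcomm' := s.comm_subgroupOf (Subgroup.centralizer (Q : Set G))
  refine ⟨?_, ?_⟩
  · rw [← Blocks.centralizer_zpowers_eq, BrauerPairs.map_centralizer_sub, MonoidHom.map_zpowers,
      BrauerPairs.centralizer_sup_eq]
    rfl
  have hs := BrauerPairs.step_of_ple_comm hblk' hE hcomm' (eU_spec hE hx)
  let R' : Subgroup (Subgroup.centralizer (Q : Set G)) := Q.subgroupOf (Subgroup.centralizer (Q : Set G))
  have hle' : R' ⊔ Subgroup.zpowers x ≤ (P.subgroupOf (Subgroup.centralizer (Q : Set G))) := sup_le (fun r hr => hQ hr) (Subgroup.zpowers_le.2 hx)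
  have hCC : Subgroup.centralizer ((R' ⊔ Subgroup.zpowers x : Subgroup (Subgroup.centralizer (Q : Set G))) : Set (Subgroup.centralizer (Q : Set G))) =
      Subgroup.centralizer (Subgroup.zpowers x : Set (Subgroup.centralizer (Q : Set G))) := by
    refine le_antisymm (Subgroup.centralizer_le (SetLike.coe_subset_coe.2 le_sup_right)) ?_
    rw [BrauerPairs.centralizer_sup_eq]
    exact le_inf (fun v _ => Subgroup.mem_centralizer_iff.2 fun r hr =>
      Subtype.ext (Subgroup.mem_centralizer_iff.1 v.2 r hr)) le_rfl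
  have hs' := BrauerPairs.step_of_centralizer_eq hs hle'
    ((BrauerPairs.le_centralizer_of_le_comm hcomm' hle').trans (Subgroup.centralizer_le_normalizer _)) hCC
  have hRmap : (R' ⊔ Subgroup.zpowers x).map (Subgroup.centralizer (Q : Set G)).subtype = Q ⊔ Subgroup.zpowers (x : G) := by
    rw [Subgroup.map_sup, Subgroup.map_subgroupOf_eq_of_le (hQ.trans hPK), MonoidHom.map_zpowers]
    rfl
  have hG := PLE.of_incl (Relation.ReflTransGen.single hs') (by
    show Subgroup.centralizer ((_ : Subgroup G) : Set G) ≤ (Subgroup.centralizer (Q : Set G))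
    rw [hRmap]
    exact Subgroup.centralizer_le (SetLike.coe_subset_coe.2 le_sup_left))
  rw [show inclPair (R' ⊔ Subgroup.zpowers x, eU p (P.subgroupOf (Subgroup.centralizer (Q : Set G))) E x) =
      (Q ⊔ Subgroup.zpowers (x : G), incl (Subgroup.centralizer (Q : Set G)) (AlgInt ⧸ M) (eU p (P.subgroupOf (Subgroup.centralizer (Q : Set G))) E x)) from Prod.ext hRmap rfl,
    show inclPair ((P.subgroupOf (Subgroup.centralizer (Q : Set G))), E) = (P, e) from
      Prod.ext (Subgroup.map_subgroupOf_eq_of_le hPK) hinc] at hG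
  exact (fR_eq s.pair hG).symm

omit haS hloc in
/-- Height zero characters of the local blocks have decomposition numbers of absolute value one. -/
theorem LH_height_zero {Q : Subgroup G} (hQ : Q ≤ P) (hQ1 : Q ≠ ⊥)
    {η : IrrCharacter (Subgroup.centralizer (Q : Set G))}
    (hη : η ∈ blkSet M (Subgroup.centralizer (Q : Set G)) (fR p P e Q))
    (hh : blockHeight p (blkSet M (Subgroup.centralizer (Q : Set G)) (fR p P e Q)) η.1 = 0)
    {v : G} (hv : v ∈ P) :
    LH M p (Subgroup.centralizer ((Q ⊔ Subgroup.zpowers v : Subgroup G) : Set G))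
        (fR p P e (Q ⊔ Subgroup.zpowers v)) (extFun η.1) v *
      conj (LH M p (Subgroup.centralizer ((Q ⊔ Subgroup.zpowers v : Subgroup G) : Set G))
        (fR p P e (Q ⊔ Subgroup.zpowers v)) (extFun η.1) v) = 1 := by
  have hR : Q ⊔ Subgroup.zpowers v ≤ P := sup_le hQ (Subgroup.zpowers_le.2 hv)
  have hR1 : Q ⊔ Subgroup.zpowers v ≠ ⊥ := fun h => hQ1 (le_bot_iff.1 (h ▸ le_sup_left))
  obtain ⟨hb, -⟩ := s.block_spec hQ
  obtain ⟨E, hmax', hinc⟩ := s.exists_max_local hQ
  have hnil := (BrauerPairs.isNilpotentBlock_iff hb).1 (s.nilpotent_local hQ hQ1)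
  have hvK : v ∈ Subgroup.centralizer (Q : Set G) := s.le_centralizer hQ hv
  let x : (Subgroup.centralizer (Q : Set G)) := ⟨v, hvK⟩
  have hx : x ∈ P.subgroupOf (Subgroup.centralizer (Q : Set G)) := hv
  obtain ⟨hmap, hblock⟩ := s.eU_nested hQ hmax'.1.1 hinc hx
  obtain ⟨hb', hbe'⟩ := blkSet_spec (NilRank.isBlockIdem_eU hmax'.1.1 hx)
  set L := Subgroup.centralizer ({x} : Set (Subgroup.centralizer (Q : Set G))) with hL
  set b' := blkSet M L (eU p (P.subgroupOf (Subgroup.centralizer (Q : Set G))) E x) with hb'def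
  set ι := nestEquiv hmap
  obtain ⟨hbR, hbRe⟩ := s.block_spec hR
  have hbH : mapBlock ι.symm b' =
      blkSet M (Subgroup.centralizer ((Q ⊔ Subgroup.zpowers v : Subgroup G) : Set G))
        (fR p P e (Q ⊔ Subgroup.zpowers v)) := by
    rw [← hblock, ← hbe', ← blk_nestEquiv hmap, blkSet_blk (BrauerPairs.isPBlock_mapBlock _ hb')]
  have href := (s.isRef hR hR1).comp ι
  rw [← hbH, mapBlock_mapBlock_symm] at href
  have hxL : x ∈ L := Subgroup.mem_centralizer_singleton_iff.2 rfl
  have hc : ∀ y : L, Commute (⟨x, hxL⟩ : L) y := fun y =>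
    Subtype.ext (Subgroup.mem_centralizer_singleton_iff.1 y.2).symm
  have hηc : IsCharacter L fun t : L => η.1 t := Char.IsCharacter.restrict (Char.irr_isCharacter η) L
  have h1 := NilRank.TT_self_eq_one s.hpM hb hmax' hnil hη hh hx
  rw [TT, Tof, sectF_eq_secH L hxL, NilRank.pow_blockDefect_eU s.hpM hb hmax' hnil hx,
    show P.subgroupOf (Subgroup.centralizer (Q : Set G)) ⊓ Subgroup.centralizer ({x} : Set (Subgroup.centralizer (Q : Set G))) = P.subgroupOf (Subgroup.centralizer (Q : Set G)) from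
      inf_eq_left.2 fun y hy => Subgroup.mem_centralizer_singleton_iff.2
        (Subgroup.mem_centralizer_iff.1 (s.comm_subgroupOf (Subgroup.centralizer (Q : Set G)) hy) x hx).symm,
    Nat.card_congr (Subgroup.subgroupOfEquivOfLe (s.le_centralizer hQ)).toEquiv,
    href.secH_eq s.hpM hb' hc hηc hηc] at h1
  have hvH : v ∈ Subgroup.centralizer ((Q ⊔ Subgroup.zpowers v : Subgroup G) : Set G) :=
    s.le_centralizer hR hv
  have hθ : (fun t : L => η.1 t) = fun t : L => extFun η.1 ((ι t : _) : G) := by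
    funext t
    rw [coe_nestEquiv, extFun_apply η.1 t.1.2]
  have hLH : LH M p (Subgroup.centralizer ((Q ⊔ Subgroup.zpowers v : Subgroup G) : Set G))
      (fR p P e (Q ⊔ Subgroup.zpowers v)) (extFun η.1) v =
      Lc b' (fun ξ => (refData M p (Subgroup.centralizer ((Q ⊔ Subgroup.zpowers v : Subgroup G) : Set G))
        (fR p P e (Q ⊔ Subgroup.zpowers v))).2 ((compIrr ι).symm ξ)) (fun t : L => η.1 t) ⟨x, hxL⟩ := by
    rw [LH_eq hvH, ← hbH, hθ]
    conv_rhs => rw [← mapBlock_mapBlock_symm ι b']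
    exact (Lc_comp ι (mapBlock ι.symm b') _ (fun t => extFun η.1 (t : G)) ⟨x, hxL⟩).symm
  rw [hLH]
  exact h1

end Setup

end Cfsg.Agent.FreeInertia
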