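import Cfsg.Agent.Lib.FreeInertia.Glue
import Cfsg.Agent.Lib.FreeInertia.Orbits
import Mathlib.GroupTheory.Subgroup.Centralizer

/-!
# A family stable under the inertial quotient

`exists_stable`: the decomposition numbers of `B`, multiplied by a phase of absolute value one, give
functions on `P ∖ 1` which are stable under the inertial quotient and congruent to trace functions.
-/

set_option autoImplicit false
set_option linter.unusedSectionVars false
set_option linter.style.haveILetI false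

namespace Cfsg.Agent.FreeInertia

open Cfsg Blocks MonoidAlgebra
open Cfsg.Agent.BrauerPairs (stabOf stabOf_le)
open Cfsg.Agent.Blocks.NilRank (Cong IsTw eU blkSet sectF)
open scoped Classical ComplexConjugate

universe u

variable {G : Type u} [Group G] [Fintype G] {M : Ideal AlgInt} [M.IsMaximal] {p : ℕ}
  [hp : Fact p.Prime] [CharP (AlgInt ⧸ M) p] {B : Set (IrrCharacter G)} {P : Subgroup G}
  {e : MonoidAlgebra (AlgInt ⧸ M) G}

/-- The automorphisms of `P` induced by the stabiliser of `e`. -/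
noncomputable def autE (P : Subgroup G) (e : MonoidAlgebra (AlgInt ⧸ M) G) : Subgroup (MulAut P) :=
  ((Subgroup.normalizerMonoidHom P).comp (Subgroup.inclusion (stabOf_le P e))).range

theorem mem_autE {σ : MulAut P} (h : σ ∈ autE P e) :
    ∃ g ∈ stabOf P e, ∀ x : P, (σ x : G) = g * x * g⁻¹ := by
  obtain ⟨g, rfl⟩ := MonoidHom.mem_range.1 h
  exact ⟨g, g.2, fun x => rfl⟩

theorem exists_autE {t : G} (ht : t ∈ stabOf P e) :
    ∃ σ ∈ autE P e, ∀ x : P, (σ x : G) = t * x * t⁻¹ :=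
  ⟨_, MonoidHom.mem_range.2 ⟨⟨t, ht⟩, rfl⟩, fun _ => rfl⟩

theorem card_autE :
    Nat.card (autE P e) = (Subgroup.centralizer (P : Set G)).relIndex (stabOf P e) := by
  rw [autE, ← Subgroup.index_ker, ← MonoidHom.comap_ker, Subgroup.normalizerMonoidHom_ker]
  rfl

namespace Setup

variable (s : Setup p B P e)
include s

theorem autE_free {σ : MulAut P} (h : σ ∈ autE P e) {x : P} (hx : x ≠ 1) (hfix : σ x = x) : σ = 1 := by
  obtain ⟨g, hg, hgx⟩ := mem_autE h
  have hc := s.free g hg x x.2 (fun h1 => hx (Subtype.ext h1)) (by rw [← hgx, hfix])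
  refine MulEquiv.ext fun y => Subtype.ext ?_
  rw [hgx]
  show g * (y : G) * g⁻¹ = (y : G)
  rw [← Subgroup.mem_centralizer_iff.1 hc y y.2, mul_inv_cancel_right]

theorem exists_card_eq : ∃ r, Nat.card P = 1 + Nat.card (autE P e) * r := by
  haveI : Fintype (autE P e) := Fintype.ofFinite _
  obtain ⟨r, -, h, -⟩ := exists_reps (A := autE P e) (X := P) (fun σ x => (σ : MulAut P) x)
    (fun _ => rfl) (fun _ _ _ => rfl) 1 (fun σ => map_one _)
    fun σ x hx h => Subtype.ext (s.autE_free σ.2 hx h)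
  exact ⟨r, by rw [Nat.card_eq_fintype_card, Nat.card_eq_fintype_card, h]⟩

theorem coprime_autE {D : ℕ} (hD : Nat.card P = p ^ D) (hD0 : D ≠ 0) (k : ℕ) :
    Nat.Coprime (Nat.card (autE P e)) (p ^ k) := by
  obtain ⟨r, hr⟩ := s.exists_card_eq
  refine Nat.Coprime.pow_right k (hp.out.coprime_iff_not_dvd.2 fun h => ?_).symm
  have h1 : p ∣ 1 + Nat.card (autE P e) * r := by
    rw [← hr, hD]
    exact dvd_pow_self p hD0
  exact hp.out.not_dvd_one ((Nat.dvd_add_left (h.mul_right r)).1 h1)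

/-- The stable family. -/
theorem exists_stable {D : ℕ} (hD : Nat.card P = p ^ D) (hD0 : D ≠ 0) :
    ∃ F : IrrCharacter G → P → ℕ → ℂ, (∀ χ v, IsTw (p ^ D * p) (F χ v)) ∧
      (∀ χ (v : P) t, ¬ p ∣ t → F χ v t = F χ (v ^ t) 1) ∧
      (∀ χ, ∃ g : P → ℂ, InR M p D g ∧ ∀ v, v ≠ 1 → g v = F χ v 1) ∧
      (∀ χ ψ, ∀ v : P, v ≠ 1 → F χ v 1 * conj (F ψ v 1) = (Nat.card P : ℂ) *
        sectF p (Subgroup.centralizer ({(v : G)} : Set G)) v
          (blkSet M (Subgroup.centralizer ({(v : G)} : Set G)) (eU p P e v)) χ.1 ψ.1) ∧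
      ∀ χ, ∀ σ ∈ autE P e, ∀ v, v ≠ 1 → F χ (σ v) 1 = F χ v 1 := by
  have hpM := s.hpM
  have hP := s.isPGroup
  haveI : Fintype (autE P e) := Fintype.ofFinite _
  obtain ⟨ζ, hζtw, hζpow, hζ1, χ₀, -, g, hgR, hg0, hg⟩ := s.exists_phase hD hD0
  obtain ⟨Ginv, hGinv, hGc⟩ := (hgR χ₀).exists_inv hpM hD0 hP hg0
  have hne : ∀ (σ : MulAut P) {v : P}, v ≠ 1 → σ v ≠ 1 := fun σ v hv h =>
    hv (σ.injective (by rw [h, map_one]))
  have hL : ∀ (χ : IrrCharacter G) (σ : autE P e) {v : P}, v ≠ 1 →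
      Lfun M p P e χ.1 (((σ : MulAut P) v : P) : G) 1 = Lfun M p P e χ.1 v 1 := fun χ σ v hv => by
    obtain ⟨t, ht, htv⟩ := mem_autE σ.2
    rw [htv]
    exact s.Lfun_conj ht v.2 (fun h => hv (Subtype.ext h)) χ
  -- the ratios
  let uσ : autE P e → P → ℕ → ℂ := fun σ v t => ζ ((σ : MulAut P) v) t * conj (ζ v t)
  have huTw : ∀ σ v, IsTw (p ^ D * p) (uσ σ v) := fun σ v => IsTw.mul (hζtw _) (isTw_conj (hζtw v))
  have hu1 : ∀ σ v, uσ σ v 1 * conj (uσ σ v 1) = 1 := fun σ v => by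
    simp only [uσ, map_mul, Complex.conj_conj]
    rw [mul_mul_mul_comm, hζ1, one_mul, mul_comm, hζ1]
  have hupow : ∀ σ (v : P) t, ¬ p ∣ t → uσ σ v t = uσ σ (v ^ t) 1 := fun σ v t ht => by
    simp only [uσ, map_pow]
    rw [hζpow _ t ht, hζpow v t ht]
  have hgσ : ∀ (σ : autE P e) (v : P), v ≠ 1 →
      g χ₀ ((σ : MulAut P) v) = g χ₀ v * uσ σ v 1 := fun σ v hv => by
    rw [hg χ₀ _ (hne σ hv), hg χ₀ v hv, hL χ₀ σ hv]
    simp only [uσ]
    linear_combination (-(Lfun M p P e χ₀.1 v 1 * ζ ((σ : MulAut P) v) 1)) * hζ1 v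
  let w : autE P e → P → ℂ := fun σ v =>
    if v = 1 then g χ₀ ((σ : MulAut P) v) * Ginv v else uσ σ v 1
  have huR : ∀ σ v, MemLocalRing M (uσ σ v 1) := fun σ v =>
    memLocalRing_of_isIntegral ((huTw σ v).isIntegral
      (mul_ne_zero (pow_ne_zero _ hp.out.ne_zero) hp.out.ne_zero) 1)
  have hwR : ∀ σ, InR M p D (w σ) := fun σ => by
    refine (((hgR χ₀).comp (σ : MulAut P).toMonoidHom).mul hGinv).congr fun v => ?_
    show Cong M p D (g χ₀ ((σ : MulAut P) v) * Ginv v) (w σ v)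
    by_cases hv : v = 1
    · exact Cong.of_eq (by simp only [w, if_pos hv])
    · simp only [w, if_neg hv]
      rw [hgσ σ v hv, mul_right_comm]
      simpa using (hGc v).mul_right (huR σ v)
  have hw1 : ∀ σ, red M (w σ 1) = 1 := fun σ => by
    simp only [w, if_pos, map_one]
    have h := (red_eq_iff (MemLocalRing.mul ((hgR χ₀).memLocalRing 1) (hGinv.memLocalRing 1))
      memLocalRing_one).2 ((hGc 1).memLocalIdeal hpM hD0)
    rwa [red_one] at h
  have hK : ∀ σ, ∃ K : ℕ, ∀ v : P, v ≠ 1 → uσ σ v 1 ^ p ^ K = 1 := fun σ =>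
    exists_pow_eq_one hpM hP hD (uσ σ) (huTw σ) (fun v _ t ht => hupow σ v t ht)
      (fun v _ => hu1 σ v) fun v hv => by
        refine (red_eq_iff (huR σ v) memLocalRing_one).1 ?_
        rw [red_one, ← hw1 σ, ← (hwR σ).red_eq hpM hD0 hP v]
        simp only [w, if_neg hv]
  choose K hK using hK
  set E := p ^ ((∑ σ, K σ) + 1) with hE
  have hE1 : 1 < E := Nat.one_lt_pow (by omega) hp.out.one_lt
  have huE : ∀ σ v, v ≠ 1 → uσ σ v 1 ^ E = 1 := fun σ v hv => by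
    have hle : K σ ≤ (∑ τ, K τ) + 1 :=
      (Finset.single_le_sum (fun τ _ => Nat.zero_le (K τ)) (Finset.mem_univ σ)).trans (Nat.le_succ _)
    rw [hE, ← Nat.add_sub_cancel' hle, pow_add, pow_mul, hK σ v hv, one_pow]
  obtain ⟨N, -, hN⟩ := Nat.exists_mul_mod_eq_one_of_coprime
    (s.coprime_autE hD hD0 ((∑ σ, K σ) + 1)) hE1
  set n := Nat.card (autE P e) with hn
  set j := n * N / E
  have hnN : n * N = 1 + E * j := by
    conv_lhs => rw [← Nat.mod_add_div (n * N) E]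
    rw [hN]
  have hshift : ∀ (τ : autE P e) (v : P), ∏ σ, uσ σ ((τ : MulAut P) v) 1 =
      (∏ σ, uσ σ v 1) * conj (uσ τ v 1) ^ n := fun τ v => by
    have h : ∀ σ, uσ σ ((τ : MulAut P) v) 1 = uσ (σ * τ) v 1 * conj (uσ τ v 1) := fun σ => by
      simp only [uσ, Subgroup.coe_mul, MulAut.mul_apply, map_mul, Complex.conj_conj]
      linear_combination (-(ζ ((σ : MulAut P) ((τ : MulAut P) v)) 1 *
        conj (ζ ((τ : MulAut P) v) 1))) * hζ1 v
    rw [Finset.prod_congr rfl fun σ _ => h σ, Finset.prod_mul_distrib, Finset.prod_const,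
      Finset.card_univ, ← Nat.card_eq_fintype_card]
    congr 1
    exact Fintype.prod_equiv (Equiv.mulRight τ) _ _ fun _ => rfl
  let F : IrrCharacter G → P → ℕ → ℂ := fun χ v t =>
    Lfun M p P e χ.1 v t * ζ v t * (∏ σ, uσ σ v t) ^ N
  refine ⟨F, fun χ v => IsTw.mul (IsTw.mul (s.isTw_Lfun v.2 hD χ) (hζtw v))
      (isTw_pow (IsTw.prod _ fun σ _ => huTw σ v) N), fun χ v t ht => ?_, fun χ => ?_,
    fun χ ψ v hv => ?_, fun χ τ hτ v hv => ?_⟩
  · simp only [F, SubmonoidClass.coe_pow]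
    rw [s.Lfun_pow v.2 ht, hζpow v t ht, Finset.prod_congr rfl fun σ _ => hupow σ v t ht]
  · refine ⟨fun v => g χ v * (∏ σ, w σ v) ^ N,
      (hgR χ).mul (InR.pow (InR.prod _ fun σ _ => hwR σ) N), fun v hv => ?_⟩
    simp only [F, w, if_neg hv]
    rw [hg χ v hv]
  · have hΦ : (∏ σ, uσ σ v 1) * conj (∏ σ, uσ σ v 1) = 1 := by
      rw [map_prod, ← Finset.prod_mul_distrib]
      exact Finset.prod_eq_one fun σ _ => hu1 σ v
    have hΦN : (∏ σ, uσ σ v 1) ^ N * conj ((∏ σ, uσ σ v 1) ^ N) = 1 := by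
      rw [map_pow, ← mul_pow, hΦ, one_pow]
    rw [← s.Lfun_sect v.2 (fun h => hv (Subtype.ext h)) χ ψ]
    simp only [F, map_mul]
    linear_combination (Lfun M p P e χ.1 v 1 * conj (Lfun M p P e ψ.1 v 1)) *
      ((∏ σ, uσ σ v 1) ^ N * conj ((∏ σ, uσ σ v 1) ^ N)) * hζ1 v +
      (Lfun M p P e χ.1 v 1 * conj (Lfun M p P e ψ.1 v 1)) * hΦN
  · lift τ to autE P e using hτ
    simp only [F]
    rw [hL χ τ hv, hshift τ v, mul_pow, ← pow_mul, hnN, pow_add, pow_one, pow_mul, ← map_pow,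
      huE τ v hv, map_one, one_pow, mul_one]
    simp only [uσ, map_mul, Complex.conj_conj]
    linear_combination (Lfun M p P e χ.1 v 1 * (∏ σ, uσ σ v 1) ^ N * ζ v 1) * hζ1 ((τ : MulAut P) v)

end Setup

end Cfsg.Agent.FreeInertia
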